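import Groth.Agent.SerreAff.Basic
import Groth.Agent.QCohBase.CohProps

/-!
# Quasi-coherent ideals and closed subschemes: the kernel of a morphism out of the structure sheaf
-/

noncomputable section

universe u

open CategoryTheory Limits AlgebraicGeometry Opposite TopologicalSpace Groth.Agent.QCohBase

namespace Groth.Agent.Devissage

variable {X : Scheme.{u}}

/-- Morphisms of modules agreeing on affine opens are equal. -/
lemma hom_ext_affine {M N : X.Modules} (f g : M ⟶ N)
    (h : ∀ U : X.Opens, IsAffineOpen U → ∀ s : Γ(M, U), f.app U s = g.app U s) : f = g := by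
  ext W s
  choose A hA hxA hAW using fun y : W => Opens.isBasis_iff_nbhd.1 X.isBasis_affineOpens y.2
  refine eq_of_iSup_le N A hAW (fun y hy => Opens.mem_iSup.2 ⟨⟨y, hy⟩, hxA ⟨y, hy⟩⟩) _ _ fun y => ?_
  rw [app_nat, app_nat]
  exact h _ (hA y) _

/-- A morphism which is injective on sections is a monomorphism. -/
lemma mono_of_app_injective {M N : X.Modules} (f : M ⟶ N)
    (h : ∀ U, Function.Injective (f.app U)) : Mono f := by
  refine ⟨fun a b hab => ?_⟩
  ext W s
  exact h W (congr(($hab).app W s))

lemma comp_app_apply {M N P : X.Modules} (f : M ⟶ N) (g : N ⟶ P) (U : X.Opens) (s : Γ(M, U)) :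
    (f ≫ g).app U s = g.app U (f.app U s) := rfl

variable {Q : X.Modules} [Q.IsQuasicoherent] (ψ : Coh.structureModule X ⟶ Q)

/-- The ideals of sections killed by a morphism out of the structure sheaf. -/
def kerIdeal (U : X.Opens) : Ideal Γ(X, U) where
  carrier := {a | ψ.app U a = 0}
  add_mem' := fun {a b} (ha : ψ.app U a = 0) (hb : ψ.app U b = 0) =>
    (map_add (ψ.app U).hom a b).trans ((congrArg₂ (· + ·) ha hb).trans (add_zero 0))
  zero_mem' := map_zero (ψ.app U).hom
  smul_mem' := fun c a (ha : ψ.app U a = 0) =>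
    (Scheme.Modules.Hom.app_smul ψ c (show Γ(Coh.structureModule X, U) from a)).trans
      ((congrArg (c • ·) ha).trans (smul_zero c))

omit [Q.IsQuasicoherent] in
lemma mem_kerIdeal {U : X.Opens} {a : Γ(X, U)} : a ∈ kerIdeal ψ U ↔ ψ.app U a = 0 := Iff.rfl

omit [Q.IsQuasicoherent] in
lemma ores_mem_kerIdeal {U W : X.Opens} (h : W ≤ U) {a : Γ(X, U)} (ha : a ∈ kerIdeal ψ U) :
    ores h a ∈ kerIdeal ψ W := by
  rw [mem_kerIdeal] at ha ⊢
  have := app_nat ψ h (show Γ(Coh.structureModule X, U) from a)
  rw [ha, map_zero] at this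
  exact this.symm

/-- The ideal sheaf data of the kernel of a morphism from the structure sheaf to a quasi-coherent
module. -/
def kerData : X.IdealSheafData where
  ideal U := kerIdeal ψ U.1
  map_ideal_basicOpen := by
    intro U f
    refine le_antisymm (Ideal.map_le_iff_le_comap.2 fun a ha =>
      ores_mem_kerIdeal ψ (X.basicOpen_le f) ha) fun r hr => ?_
    let h : X.basicOpen f ≤ U.1 := X.basicOpen_le f
    haveI := AssPts.isQuasicoherent_structureModule X
    obtain ⟨n, a, ha⟩ := exists_pow_smul_eq_mres (Coh.structureModule X) U.2 f rfl h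
      (show Γ(Coh.structureModule X, X.basicOpen f) from r)
    have hr' : ψ.app (X.basicOpen f) (show Γ(Coh.structureModule X, X.basicOpen f) from r) = 0 := hr
    have h0 : mres Q h (ψ.app U.1 a) = 0 := by
      rw [app_nat, ha, Scheme.Modules.Hom.app_smul, hr', smul_zero]
    obtain ⟨m, hm⟩ := exists_pow_smul_eq_zero Q U.2 f rfl h _ h0
    have hmem : (f ^ m * (show Γ(X, U.1) from a)) ∈ kerIdeal ψ U.1 := by
      rw [mem_kerIdeal]
      exact (Scheme.Modules.Hom.app_smul ψ (f ^ m) a).trans hm
    have hu : IsUnit (ores h f ^ (m + n)) := (RingedSpace.isUnit_res_basicOpen _ f).pow _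
    have he : r = hu.unit⁻¹.1 * ores h (f ^ m * (show Γ(X, U.1) from a)) := by
      rw [map_mul, map_pow]
      have ha' : ores h (show Γ(X, U.1) from a) = ores h f ^ n * r := ha
      rw [ha', ← mul_assoc (ores h f ^ m), ← pow_add, ← mul_assoc, IsUnit.val_inv_mul, one_mul]
    rw [he]
    exact Ideal.mul_mem_left _ _ (Ideal.mem_map_of_mem _ hmem)

lemma kerData_subschemeι_app_eq_zero_iff (U : X.affineOpens) (a : Γ(X, U.1)) :
    (kerData ψ).subschemeι.app U.1 a = 0 ↔ ψ.app U.1 a = 0 := by
  have h := (kerData ψ).ker_subschemeι_app U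
  rw [← RingHom.mem_ker, h]
  rfl

/-- A closed immersion is injective on quasi-coherent ideals: the structure map onto its sheaf is
surjective on affine opens. -/
lemma exists_app_eq {Z : Scheme.{u}} (i : Z ⟶ X) [IsClosedImmersion i] {U : X.Opens}
    (hU : IsAffineOpen U)
    (s : Γ((Scheme.Modules.pushforward i).obj (Coh.structureModule Z), U)) :
    ∃ a : Γ(X, U), (ClSub.unitToPush i).app U a = s :=
  i.app_surjective U hU s

/-- Quasi-coherent submodules of the direct image of the structure sheaf of a closed subscheme are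
direct images of quasi-coherent ideals. -/
theorem exists_ideal_of_mono {Z : Scheme.{u}} (i : Z ⟶ X) [IsClosedImmersion i]
    {K : X.Modules} (hK : K.IsQuasicoherent)
    (k : K ⟶ (Scheme.Modules.pushforward i).obj (Coh.structureModule Z)) [Mono k] :
    ∃ (I : Z.Modules) (ι : I ⟶ Coh.structureModule Z), Mono ι ∧ I.IsQuasicoherent ∧
      Nonempty ((Scheme.Modules.pushforward i).obj I ≅ K) := by
  haveI hOZ := AssPts.isQuasicoherent_structureModule Z
  have hB : ((Scheme.Modules.pushforward i).obj (Coh.structureModule Z)).IsQuasicoherent :=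
    isQuasicoherent_pushforward _ i
  haveI hQ : (cokernel k).IsQuasicoherent := isQuasicoherent_cokernel k hK hB
  let φ := ClSub.unitToPush i
  let ψ := φ ≫ cokernel.π k
  let J := kerData ψ
  have hle : i.ker ≤ J.subschemeι.ker := by
    intro U a ha
    rw [Scheme.IdealSheafData.ker_subschemeι]
    rw [Scheme.Hom.ker_apply, RingHom.mem_ker] at ha
    have h1 : φ.app U.1 a = 0 := ha
    show (cokernel.π k).app U.1 (φ.app U.1 a) = 0
    rw [h1, map_zero]
  let l := IsClosedImmersion.lift i J.subschemeι hle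
  have hl : l ≫ i = J.subschemeι := IsClosedImmersion.lift_fac _ _ _
  haveI : IsClosedImmersion (l ≫ i) := hl ▸ inferInstance
  haveI : IsClosedImmersion l := IsClosedImmersion.of_comp l i
  let ρ := ClSub.unitToPush l
  haveI hOW := AssPts.isQuasicoherent_structureModule J.subscheme
  let T := (Scheme.Modules.pushforward i).map ρ
  have key : ∀ (U : X.Opens), IsAffineOpen U → ∀ a : Γ(X, U),
      T.app U (φ.app U a) = 0 ↔ ψ.app U a = 0 := by
    intro U hU a
    rw [← kerData_subschemeι_app_eq_zero_iff ψ ⟨U, hU⟩ a]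
    show (i.app U ≫ l.app (i ⁻¹ᵁ U)) a = 0 ↔ J.subschemeι.app U a = 0
    rw [← Scheme.Hom.comp_app, Scheme.Hom.congr_app hl U]
    show J.subscheme.presheaf.map _ (J.subschemeι.app U a) = 0 ↔ _
    exact map_eq_zero_iff _ (ConcreteCategory.bijective_of_isIso _).1
  have h1 : kernel.ι (cokernel.π k) ≫ T = 0 := by
    refine hom_ext_affine _ _ fun U hU s => ?_
    obtain ⟨a, ha⟩ := exists_app_eq i hU ((kernel.ι (cokernel.π k)).app U s)
    rw [comp_app_apply, ← ha]
    refine ((key U hU a).2 ?_).trans rfl
    rw [comp_app_apply, ha, ← comp_app_apply, kernel.condition]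
    rfl
  have h2 : kernel.ι T ≫ cokernel.π k = 0 := by
    refine hom_ext_affine _ _ fun U hU s => ?_
    obtain ⟨a, ha⟩ := exists_app_eq i hU ((kernel.ι T).app U s)
    rw [comp_app_apply, ← ha]
    refine (Eq.trans ?_ ((key U hU a).1 ?_)).trans rfl
    · rfl
    · rw [ha, ← comp_app_apply, kernel.condition]
      rfl
  let e₁ : kernel T ≅ kernel (cokernel.π k) :=
    { hom := kernel.lift _ (kernel.ι T) h2
      inv := kernel.lift _ (kernel.ι (cokernel.π k)) h1
      hom_inv_id := by rw [← cancel_mono (kernel.ι T)]; simp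
      inv_hom_id := by rw [← cancel_mono (kernel.ι (cokernel.π k))]; simp }
  let e₂ : kernel (cokernel.π k) ≅ K :=
    IsLimit.conePointUniqueUpToIso (kernelIsKernel (cokernel.π k))
      (Abelian.monoIsKernelOfCokernel (CokernelCofork.ofπ _ (cokernel.condition k))
        (cokernelIsCokernel k))
  refine ⟨kernel ρ, kernel.ι ρ, inferInstance,
    isQuasicoherent_kernel ρ hOZ (isQuasicoherent_pushforward _ l), ⟨?_⟩⟩
  exact PreservesKernel.iso (Scheme.Modules.pushforward i) ρ ≪≫ e₁ ≪≫ e₂

end Groth.Agent.Devissage
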