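import Groth.Agent.Devissage.TwoThree
import Groth.Agent.CompDerived.CohComp
import Mathlib.RingTheory.LocalRing.Module
import Mathlib.LinearAlgebra.Dual.Lemmas

/-!
# Serre classes of coherent modules and supports
-/

noncomputable section

universe u

open CategoryTheory Limits AlgebraicGeometry Opposite TopologicalSpace Groth.Agent.QCohBase
open scoped TensorProduct

namespace Groth.Agent.Devissage

/-- A finite module with a prime in its support has a nonzero functional to the quotient. -/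
theorem exists_functional_of_mem_support {A D M : Type u} [CommRing A] [CommRing D] [Algebra A D]
    [AddCommGroup M] [Module A M] [Module.Finite A M]
    (hs : Function.Surjective (algebraMap A D)) (p : PrimeSpectrum A)
    (hker : RingHom.ker (algebraMap A D) = p.asIdeal) (hp : p ∈ Module.support A M) :
    ∃ (l : M →ₗ[A] D) (m : M), l m ≠ 0 := by
  classical
  let K := p.asIdeal.ResidueField
  haveI : Nontrivial (K ⊗[A] M) := Module.mem_support_iff_nontrivial_residueField_tensorProduct p |>.1 hp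
  obtain ⟨v, hv⟩ := exists_ne (0 : K ⊗[A] M)
  obtain ⟨φ, hφ⟩ : ∃ φ : Module.Dual K (K ⊗[A] M), φ v ≠ 0 := by
    by_contra hc
    exact hv ((Module.forall_dual_apply_eq_zero_iff K v).1 fun φ => by simpa using (not_exists.1 hc) φ)
  let h : M →ₗ[A] K := (φ.restrictScalars A).comp ((TensorProduct.mk A K M) 1)
  have hne : ∃ m, h m ≠ 0 := by
    by_contra hc
    push Not at hc
    refine hφ ?_
    suffices hall : ∀ w, φ w = 0 from hall v
    intro w
    induction w using TensorProduct.induction_on with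
    | zero => exact map_zero φ
    | tmul a m =>
      rw [show a ⊗ₜ[A] m = a • ((1 : K) ⊗ₜ[A] m) by rw [TensorProduct.smul_tmul', smul_eq_mul, mul_one],
        map_smul, show φ ((1 : K) ⊗ₜ[A] m) = 0 from hc m, smul_zero]
    | add x y hx hy => rw [map_add, hx, hy, add_zero]
  obtain ⟨m, hm⟩ := hne
  obtain ⟨t, ht⟩ := (Module.Finite.fg_top : (⊤ : Submodule A M).FG)
  obtain ⟨d, hd⟩ := IsLocalization.exist_integer_multiples
    (nonZeroDivisors (A ⧸ p.asIdeal)) t fun b => h b
  obtain ⟨d', hd'⟩ := Ideal.Quotient.mk_surjective (d : A ⧸ p.asIdeal)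
  let R := LinearMap.range (Algebra.linearMap A K)
  have hmem : ∀ x, d' • h x ∈ R := by
    intro x
    have hx : x ∈ Submodule.comap (d' • h) R := by
      have hle : (⊤ : Submodule A M) ≤ Submodule.comap (d' • h) R := by
        rw [← ht, Submodule.span_le]
        intro b hb
        obtain ⟨a, ha⟩ := hd b hb
        obtain ⟨a', rfl⟩ := Ideal.Quotient.mk_surjective a
        refine ⟨a', ?_⟩
        show algebraMap A K a' = d' • h b
        rw [Algebra.smul_def, IsScalarTower.algebraMap_apply A (A ⧸ p.asIdeal) K,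
          IsScalarTower.algebraMap_apply A (A ⧸ p.asIdeal) K, Ideal.Quotient.algebraMap_eq, hd']
        exact ha.trans (Algebra.smul_def _ _)
      exact hle trivial
    exact hx
  have hkD : LinearMap.ker (Algebra.linearMap A D) = p.asIdeal := Submodule.ext fun a =>
    SetLike.ext_iff.1 hker a
  have hkK : LinearMap.ker (Algebra.linearMap A K) = p.asIdeal := Submodule.ext fun a =>
    SetLike.ext_iff.1 p.asIdeal.ker_algebraMap_residueField a
  let e : R ≃ₗ[A] D := (Algebra.linearMap A K).quotKerEquivRange.symm ≪≫ₗ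
    Submodule.quotEquivOfEq _ _ (hkK.trans hkD.symm) ≪≫ₗ
    (Algebra.linearMap A D).quotKerEquivOfSurjective hs
  refine ⟨e.toLinearMap.comp ((d' • h).codRestrict R hmem), m, fun h0 => ?_⟩
  have h1 : d' • h m = 0 := congrArg Subtype.val (e.injective (h0.trans (map_zero e).symm))
  rw [Algebra.smul_def, mul_eq_zero, ← RingHom.mem_ker, Ideal.ker_algebraMap_residueField] at h1
  rcases h1 with h1 | h1
  · exact nonZeroDivisors.ne_zero d.2 (hd' ▸ Ideal.Quotient.eq_zero_iff_mem.2 h1)
  · exact hm h1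

variable {X : Scheme.{u}} [AlgebraicGeometry.IsNoetherian X]

/-- The support of the structure module of a closed subscheme. -/
theorem support_push_structure {Z : Scheme.{u}} (i : Z ⟶ X) [IsClosedImmersion i] :
    CohB1.support ((Coh.push i).obj (Coh.structureModule Z)) = Set.range i := by
  haveI hOq : Coh.IsQCoh (Coh.structureModule Z) := AssPts.isQuasicoherent_structureModule Z
  haveI hF : ((Coh.push i).obj (Coh.structureModule Z)).IsQuasicoherent :=
    isQuasicoherent_pushforward _ i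
  ext x
  constructor
  · intro hx
    by_contra hxr
    obtain ⟨W, hW, hxW, hWr⟩ := Opens.isBasis_iff_nbhd.1 X.isBasis_affineOpens
      (U := ⟨(Set.range i)ᶜ, i.isClosedEmbedding.isClosed_range.isOpen_compl⟩) hxr
    have hempty : i ⁻¹ᵁ W = ⊥ := le_bot_iff.1 fun y hy => hWr hy (Set.mem_range_self y)
    haveI : Subsingleton Γ(Z, i ⁻¹ᵁ W) := by rw [hempty]; infer_instance
    exact hx ((subsingleton_stalk_iff _ hW x hxW).2 fun s =>
      ⟨1, by rw [Scheme.basicOpen_one]; exact hxW, @Subsingleton.elim Γ(Z, i ⁻¹ᵁ W) _ _ _⟩)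
  · rintro ⟨z, rfl⟩ hsub
    obtain ⟨U, hU, hzU, -⟩ := Opens.isBasis_iff_nbhd.1 X.isBasis_affineOpens (Opens.mem_top (i z))
    obtain ⟨g, hg, hg1⟩ := (subsingleton_stalk_iff _ hU (i z) hzU).1 hsub
      (show Γ(Z, i ⁻¹ᵁ U) from 1)
    have hg0 : i.app U g = 0 := by
      have : (i.app U g : Γ(Z, i ⁻¹ᵁ U)) * 1 = 0 := hg1
      simpa using this
    have hz : z ∈ i ⁻¹ᵁ X.basicOpen g := hg
    rw [Scheme.preimage_basicOpen, hg0, Scheme.basicOpen_zero] at hz
    exact hz

/-- Membership in a Serre class, restricted to coherent modules. -/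
structure Serre (P : X.Modules → Prop) : Prop where
  iff : ∀ S : ShortComplex X.Modules, S.ShortExact → Coh.IsCoh S.X₁ → Coh.IsCoh S.X₂ →
    Coh.IsCoh S.X₃ → (P S.X₂ ↔ P S.X₁ ∧ P S.X₃)

variable {P : X.Modules → Prop}

lemma Serre.of_mono (hP : Serre P) {M N : X.Modules} (f : M ⟶ N) [Mono f] (hM : Coh.IsCoh M)
    (hN : Coh.IsCoh N) (h : P N) : P M :=
  ((hP.iff _ (ses f) hM hN (isCoh_cokernel f hM.1 hN)).1 h).1

lemma Serre.of_epi (hP : Serre P) {M N : X.Modules} (f : M ⟶ N) [Epi f] (hM : Coh.IsCoh M)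
    (hN : Coh.IsCoh N) (h : P M) : P N := by
  have hS : (ShortComplex.mk (kernel.ι f) f (kernel.condition f)).ShortExact :=
    { exact := ShortComplex.exact_of_f_is_kernel _ (kernelIsKernel f)
      mono_f := inferInstanceAs (Mono (kernel.ι f))
      epi_g := inferInstanceAs (Epi f) }
  exact ((hP.iff _ hS (isCoh_kernel f hM hN.1) hM hN).1 h).2

lemma Serre.of_iso (hP : Serre P) {M N : X.Modules} (e : M ≅ N) (hM : Coh.IsCoh M)
    (h : P M) : Coh.IsCoh N ∧ P N :=
  have hN : Coh.IsCoh N := isCoh_of_epi e.hom hM (RPushQCoh.qcoh_of_iso e hM.1)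
  ⟨hN, hP.of_epi e.hom hM hN h⟩

/-- A Serre class as a class with two out of three. -/
lemma Serre.toTwo (hP : Serre P) {F : X.Modules} (hF : Coh.IsCoh F) (hPF : P F) (T : Set X) :
    Two (fun M => Coh.IsCoh M ∧ P M) T where
  iso := fun M N e h => e.elim fun t => hP.of_iso t h.1 h.2
  zero := fun M hM => by
    haveI : Mono (0 : M ⟶ F) := ⟨fun a b _ => hM.eq_of_tgt a b⟩
    have hMc := isCoh_of_mono (0 : M ⟶ F) hF (RPushQCoh.isQuasicoherent_of_isZero hM)
    exact ⟨hMc, hP.of_mono (0 : M ⟶ F) hMc hF hPF⟩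
  two := fun S hS c₁ c₂ c₃ _ => by
    have h := hP.iff S hS c₁ c₂ c₃
    exact ⟨fun _ h₂ => ⟨c₃, (h.1 h₂.2).2⟩, fun h₁ h₃ => ⟨c₂, h.2 ⟨h₁.2, h₃.2⟩⟩,
      fun h₂ _ => ⟨c₁, (h.1 h₂.2).1⟩⟩

/-- The structure module of the integral closed subscheme at a point of the support belongs to the
Serre class. -/
theorem Serre.structure_mem (hP : Serre P) {F : X.Modules} (hF : Coh.IsCoh F) (hPF : P F)
    {ξ : X} (hξ : ξ ∈ CohB1.support F)
    (small : ∀ M : X.Modules, Coh.IsCoh M → CohB1.support M ⊆ closure {ξ} →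
      ξ ∉ CohB1.support M → Coh.IsCoh M ∧ P M)
    {Z₀ : Scheme.{u}} (i : Z₀ ⟶ X) [IsClosedImmersion i] [IsIntegral Z₀]
    (h₀ : i (genericPoint Z₀) = ξ) :
    P ((Coh.push i).obj (Coh.structureModule Z₀)) := by
  haveI : AlgebraicGeometry.IsLocallyNoetherian Z₀ := LocallyOfFiniteType.isLocallyNoetherian i
  let B := (Coh.push i).obj (Coh.structureModule Z₀)
  have hB : Coh.IsCoh B := isCoh_pushforward_of_isFinite i (isCoh_structureModule Z₀)
  haveI := hB.1
  haveI := hF.1
  have hBs : CohB1.support B = closure {ξ} := by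
    rw [support_push_structure i, range_eq_closure i, h₀]
  obtain ⟨U, hU, hξU, -⟩ := Opens.isBasis_iff_nbhd.1 X.isBasis_affineOpens (Opens.mem_top ξ)
  haveI : Nonempty (i ⁻¹ᵁ U : Z₀.Opens) := ⟨⟨genericPoint Z₀, show i _ ∈ U from h₀ ▸ hξU⟩⟩
  haveI : IsDomain Γ(Z₀, i ⁻¹ᵁ U) := IsIntegral.component_integral _
  letI : Algebra Γ(X, U) Γ(Z₀, i ⁻¹ᵁ U) := (i.app U).hom.toAlgebra
  haveI := isFiniteType_toFinite hF hU
  have hgen : ∀ O : Z₀.Opens, (O : Set Z₀).Nonempty → genericPoint Z₀ ∈ O := fun O ⟨y, hy⟩ =>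
    (genericPoint_specializes y).mem_open O.2 hy
  have hker : RingHom.ker (algebraMap Γ(X, U) Γ(Z₀, i ⁻¹ᵁ U)) =
      (hU.primeIdealOf ⟨ξ, hξU⟩).asIdeal := by
    ext r
    rw [RingHom.mem_ker, ← not_iff_not, ← mem_basicOpen_iff_notMem_prime hU ξ hξU]
    show ¬ (i.app U r = 0) ↔ _
    rw [← basicOpen_eq_bot_iff, ← Scheme.preimage_basicOpen, ← h₀]
    refine ⟨fun h => ?_, fun h hb => ?_⟩
    · obtain ⟨y, hy⟩ : ∃ y, y ∈ i ⁻¹ᵁ X.basicOpen r := by
        by_contra hc
        exact h (le_bot_iff.1 fun y hy => (hc ⟨y, hy⟩).elim)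
      exact hgen (i ⁻¹ᵁ X.basicOpen r) ⟨y, hy⟩
    · exact (hb.le (show genericPoint Z₀ ∈ i ⁻¹ᵁ X.basicOpen r from h) :)
  obtain ⟨l, s, hls⟩ := exists_functional_of_mem_support (i.app_surjective U hU) _ hker
    ((mem_support_iff F hU ξ hξU).2 hξ)
  let l' : Γ(F, U) →ₗ[Γ(X, U)] Γ(B, U) :=
    { toFun := fun t => (show Γ(Z₀, i ⁻¹ᵁ U) from l t)
      map_add' := l.map_add
      map_smul' := l.map_smul }
  let f := extHom F B hU l'
  let g := unitRes B hU
  have hH : (pushRes B hU).IsQuasicoherent := isQuasicoherent_pushRes B hU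
  let T : ShortComplex X.Modules := ShortComplex.mk (biprod.inl : F ⟶ F ⊞ B) biprod.snd (by simp)
  have hT : T.ShortExact :=
    ShortComplex.Splitting.shortExact
      { r := biprod.fst, s := biprod.inr, f_r := by simp [T], s_g := by simp [T],
        id := by simp [T, biprod.total] }
  have hFB : Coh.IsCoh (F ⊞ B) := CompDerived.isCoh_extension hT hF hB
  let δ : F ⊞ B ⟶ pushRes B hU := biprod.desc f (-g)
  let C := kernel δ
  have hC : Coh.IsCoh C := isCoh_kernel δ hFB hH
  let φ : C ⟶ F := kernel.ι δ ≫ biprod.fst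
  let ψ : C ⟶ B := kernel.ι δ ≫ biprod.snd
  have hφψ : φ ≫ f = ψ ≫ g := by
    have e : δ = biprod.fst ≫ f - biprod.snd ≫ g := by
      refine biprod.hom_ext' _ _ ?_ ?_ <;> simp [δ]
    have h : kernel.ι δ ≫ δ = φ ≫ f - ψ ≫ g := (congrArg (kernel.ι δ ≫ ·) e).trans (by
      simp [φ, ψ, Preadditive.comp_sub, C])
    exact sub_eq_zero.1 (h.symm.trans (kernel.condition δ))
  have hPC : P C := by
    let k : kernel φ ⟶ B := kernel.ι φ ≫ ψ
    haveI : Mono k := by
      refine Preadditive.mono_of_cancel_zero _ fun {W} a ha => ?_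
      have h1 : (a ≫ kernel.ι φ ≫ kernel.ι δ) ≫ biprod.fst = 0 := by
        simp only [Category.assoc]
        rw [show kernel.ι φ ≫ kernel.ι δ ≫ biprod.fst = 0 from kernel.condition φ, comp_zero]
      have h2 : (a ≫ kernel.ι φ ≫ kernel.ι δ) ≫ biprod.snd = 0 := by
        simpa [k, ψ, Category.assoc] using ha
      have h3 : a ≫ kernel.ι φ ≫ kernel.ι δ = 0 := by
        exact biprod.hom_ext _ _ (h1.trans zero_comp.symm) (h2.trans zero_comp.symm)
      rw [← cancel_mono (kernel.ι φ), ← cancel_mono (kernel.ι δ), Category.assoc, h3, zero_comp,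
        zero_comp]
    have hkg : k ≫ g = 0 := by
      show (kernel.ι φ ≫ ψ) ≫ g = 0
      rw [Category.assoc, ← hφψ, kernel.condition_assoc, zero_comp]
    haveI : Mono (kernel.lift g k hkg) := by
      haveI : Mono (kernel.lift g k hkg ≫ kernel.ι g) := by rw [kernel.lift_ι]; infer_instance
      exact mono_of_mono _ (kernel.ι g)
    have hK : Coh.IsCoh (kernel φ) := isCoh_kernel φ hC hF.1
    have hKg : Coh.IsCoh (kernel g) := isCoh_kernel g hB hH
    have hKs : CohB1.support (kernel φ) ⊆ CohB1.support (kernel g) :=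
      Set.subset_union_left.trans_eq (support_of_shortExact (ses (kernel.lift g k hkg)) hK.1 hKg.1
        (isCoh_cokernel _ hK.1 hKg).1).symm
    have hgs : CohB1.support (kernel g) ⊆ closure {ξ} :=
      hBs ▸ Set.subset_union_left.trans_eq (support_of_shortExact (ses (kernel.ι g)) hKg.1 hB.1
        (isCoh_cokernel _ hKg.1 hB).1).symm
    have hgξ : ξ ∉ CohB1.support (kernel g) := by
      haveI := hKg.1
      refine not_not.2 ((subsingleton_stalk_iff _ hU ξ hξU).2 fun c =>
        ⟨1, by rw [Scheme.basicOpen_one]; exact hξU, ?_⟩)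
      rw [one_smul]
      apply app_injective_of_mono (kernel.ι g) U
      apply (unitRes_app_bijective B hU le_rfl).1
      rw [map_zero, map_zero, ← ConcreteCategory.comp_apply, ← Scheme.Modules.Hom.comp_app,
        kernel.condition]
      rfl
    have hPK := (small _ hK (hKs.trans hgs) (fun h => hgξ (hKs h))).2
    have hI : Coh.IsCoh (kernel (cokernel.π φ)) := isCoh_kernel _ hF (isCoh_cokernel φ hC.1 hF).1
    let q : C ⟶ kernel (cokernel.π φ) := Abelian.factorThruImage φ
    have hS : (ShortComplex.mk (kernel.ι φ) q (by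
        rw [← cancel_mono (kernel.ι (cokernel.π φ)), Category.assoc, zero_comp]
        exact (congrArg (kernel.ι φ ≫ ·) (Abelian.image.fac φ)).trans (kernel.condition φ))).ShortExact :=
      { exact := ShortComplex.exact_of_f_is_kernel _ (KernelFork.IsLimit.ofι _ _
          (fun {A} a ha => kernel.lift φ a (by
            rw [← Abelian.image.fac φ]
            exact (reassoc_of% ha) _ |>.trans zero_comp))
          (fun {A} a ha => kernel.lift_ι _ _ _)
          (fun {A} a ha b hb => by rw [← cancel_mono (kernel.ι φ), kernel.lift_ι, hb]))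
        mono_f := inferInstanceAs (Mono (kernel.ι φ))
        epi_g := inferInstanceAs (Epi q) }
    exact (hP.iff _ hS hK hC hI).2 ⟨hPK, hP.of_mono (kernel.ι (cokernel.π φ)) hI hF hPF⟩
  have hI : Coh.IsCoh (kernel (cokernel.π ψ)) := isCoh_kernel _ hB (isCoh_cokernel ψ hC.1 hB).1
  have hPI : P (kernel (cokernel.π ψ)) := hP.of_epi (Abelian.factorThruImage ψ) hC hI hPC
  obtain ⟨J, ι, hι, hJq, ⟨e⟩⟩ := exists_ideal_of_mono i hI.1 (kernel.ι (cokernel.π ψ))
  have hJ : ¬ IsZero J := by
    intro hJ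
    have hz : IsZero (kernel (cokernel.π ψ)) :=
      ((Scheme.Modules.pushforward i).map_isZero hJ).of_iso e.symm
    have hψ : ψ = 0 := by
      rw [← Abelian.image.fac ψ]
      exact (congrArg (· ≫ _) (hz.eq_of_tgt (Abelian.factorThruImage ψ) 0)).trans zero_comp
    have hex : ∃ c : Γ(C, U), ψ.app U c = l' s := by
      have hw : δ.app U ((biprod.inl : F ⟶ F ⊞ B).app U s +
          (biprod.inr : B ⟶ F ⊞ B).app U (l' s)) = 0 := by
        rw [map_add, ← ConcreteCategory.comp_apply, ← Scheme.Modules.Hom.comp_app,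
          ← ConcreteCategory.comp_apply, ← Scheme.Modules.Hom.comp_app, biprod.inl_desc,
          biprod.inr_desc]
        show f.app U s + -(g.app U (l' s)) = 0
        rw [extHom_app, add_neg_cancel]
      obtain ⟨c, hc⟩ := sections_exact_left (T := ShortComplex.mk (kernel.ι δ) δ (kernel.condition δ))
        (ShortComplex.exact_of_f_is_kernel _ (kernelIsKernel δ)) _ hw
      refine ⟨c, ?_⟩
      have hc' := congrArg ((biprod.snd : F ⊞ B ⟶ B).app U) hc
      rw [map_add, ← ConcreteCategory.comp_apply, ← Scheme.Modules.Hom.comp_app,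
        ← ConcreteCategory.comp_apply, ← Scheme.Modules.Hom.comp_app,
        ← ConcreteCategory.comp_apply, ← Scheme.Modules.Hom.comp_app, biprod.inl_snd,
        biprod.inr_snd] at hc'
      show (kernel.ι δ ≫ (biprod.snd : F ⊞ B ⟶ B)).app U c = _
      rw [Scheme.Modules.Hom.comp_app, ConcreteCategory.comp_apply]
      simpa using hc'
    obtain ⟨c, hc⟩ := hex
    rw [hψ] at hc
    exact hls hc.symm
  exact (((hP.toTwo hF hPF (closure {ξ})).ideal_iff isClosed_closure i h₀
    (subset_closure (Set.mem_singleton _)) small ι hJq hJ).1 (hP.of_iso e.symm hI hPI)).2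

/-- Serre classes contain everything supported in the support of a member. -/
theorem Serre.mem_of_support (hP : Serre P) {F E : X.Modules} (hF : Coh.IsCoh F) (hPF : P F)
    (hE : Coh.IsCoh E) (h : CohB1.support E ⊆ CohB1.support F) : P E := by
  refine (two_induction (isClosed_support F hF.2) (hP.toTwo hF hPF _) (fun ξ hξ small M hM hMs => ?_)
    E hE h).2
  obtain ⟨Z₀, i₀, hi₀, hZ₀, -, h₀⟩ := exists_integral_closed ξ
  have hO := hP.structure_mem hF hPF hξ small i₀ (h₀ hZ₀)
  exact (hP.toTwo hF hPF (closure {ξ})).of_structure isClosed_closure rfl small i₀ (h₀ hZ₀)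
    ⟨(isCoh_push i₀ (𝟙 _) (AssPts.isQuasicoherent_structureModule Z₀)).2, hO⟩ M hM hMs

end Groth.Agent.Devissage

namespace Groth.Agent.Devissage

variable {X : Scheme.{u}} [AlgebraicGeometry.IsNoetherian X]

/-- Supports give Serre classes. -/
lemma serre_support (Z : Set X) : Serre (fun M : X.Modules => CohB1.support M ⊆ Z) :=
  ⟨fun S hS c₁ c₂ c₃ => by
    show CohB1.support S.X₂ ⊆ Z ↔ _
    rw [support_of_shortExact hS c₁.1 c₂.1 c₃.1]
    exact Set.union_subset_iff⟩

/-- Every closed set is the support of a coherent module. -/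
lemma exists_coh_support (Z : Closeds X) :
    ∃ F : X.Modules, Coh.IsCoh F ∧ CohB1.support F = Z := by
  let I := Scheme.IdealSheafData.vanishingIdeal (X := X) Z
  haveI : AlgebraicGeometry.IsLocallyNoetherian I.subscheme :=
    LocallyOfFiniteType.isLocallyNoetherian I.subschemeι
  refine ⟨_, isCoh_pushforward_of_isFinite I.subschemeι (isCoh_structureModule _), ?_⟩
  refine (support_push_structure I.subschemeι).trans ?_
  rw [Scheme.IdealSheafData.range_subschemeι, Scheme.IdealSheafData.coe_support_vanishingIdeal]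

end Groth.Agent.Devissage
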