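import Groth.Agent.QCohBase.Noetherian

/-!
# Extending a homomorphism of sections over an affine open to a morphism to a direct image
-/

noncomputable section

universe u

open CategoryTheory Limits AlgebraicGeometry Opposite TopologicalSpace Groth.Agent.QCohBase

namespace Groth.Agent.Devissage

variable {X : Scheme.{u}} {U : X.Opens} (A F : X.Modules) [A.IsQuasicoherent] [F.IsQuasicoherent]
  (hU : IsAffineOpen U)

/-- The direct image of the restriction to an affine open. -/
abbrev pushRes : X.Modules :=
  (Scheme.Modules.pushforward hU.fromSpec).obj (F.restrict hU.fromSpec)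

/-- The unit. -/
abbrev unitRes : F ⟶ pushRes F hU :=
  (Scheme.Modules.restrictAdjunction hU.fromSpec).unit.app F

variable (l : Γ(A, U) →ₗ[Γ(X, U)] Γ(F, U))

/-- A linear map of global sections of the restrictions. -/
def secHom : ((modulesSpecToSheaf.obj (A.restrict hU.fromSpec)).presheaf.obj (op ⊤) :
    ModuleCat.{u} Γ(X, U)) ⟶
      (modulesSpecToSheaf.obj (F.restrict hU.fromSpec)).presheaf.obj (op ⊤) :=
  ConcreteCategory.ofHom (C := ModuleCat.{u} Γ(X, U))
    ((sectionsEquiv F hU).symm.toLinearMap ∘ₗ l ∘ₗ (sectionsEquiv A hU).toLinearMap)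

/-- The morphism of restrictions. -/
def homOn : A.restrict hU.fromSpec ⟶ F.restrict hU.fromSpec :=
  (asIso (A.restrict hU.fromSpec).fromTildeΓ).inv ≫ tilde.map (secHom A F hU l) ≫
    (F.restrict hU.fromSpec).fromTildeΓ

lemma homOn_sections : (moduleSpecΓFunctor).map (homOn A F hU l) = secHom A F hU l := by
  have h2 : (moduleSpecΓFunctor).map (asIso (A.restrict hU.fromSpec).fromTildeΓ).inv =
      tilde.adjunction.unit.app
        ((modulesSpecToSheaf.obj (A.restrict hU.fromSpec)).presheaf.obj (op ⊤)) := by
    rw [← cancel_mono ((moduleSpecΓFunctor).map (asIso (A.restrict hU.fromSpec).fromTildeΓ).hom),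
      ← Functor.map_comp, Iso.inv_hom_id, CategoryTheory.Functor.map_id]
    exact (tilde.adjunction.right_triangle_components (A.restrict hU.fromSpec)).symm
  rw [homOn, Functor.map_comp, Functor.map_comp, h2, ← Category.assoc]
  erw [← tilde.adjunction.unit.naturality (secHom A F hU l)]
  exact (Category.assoc _ _ _).trans
    ((congrArg (secHom A F hU l ≫ ·)
      (tilde.adjunction.right_triangle_components (F.restrict hU.fromSpec))).trans
        (Category.comp_id _))

/-- The extension. -/
def extHom : A ⟶ pushRes F hU :=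
  unitRes A hU ≫ (Scheme.Modules.pushforward hU.fromSpec).map (homOn A F hU l)

lemma extHom_app (y : Γ(A, U)) :
    (extHom A F hU l).app U y = (unitRes F hU).app U (l y) := by
  have e1 : (extHom A F hU l).app U y = mres (F.restrict hU.fromSpec)
      (le_top : hU.fromSpec ⁻¹ᵁ U ≤ ⊤) ((homOn A F hU l).app ⊤
        ((A.restrictAppIso hU.fromSpec ⊤).inv (mres A (fromSpec_image_top hU).le y))) := by
    rw [app_nat, extHom, Scheme.Modules.Hom.comp_app, ConcreteCategory.comp_apply,
      Scheme.Modules.pushforward_map_app]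
    exact congrArg (fun z => (homOn A F hU l).app (hU.fromSpec ⁻¹ᵁ U) z) (unit_app_apply A hU y)
  rw [e1]
  refine Eq.trans ?_ (unit_app_apply F hU (l y)).symm
  refine congrArg (mres (F.restrict hU.fromSpec) _) ?_
  change moduleSpecΓFunctor.map (homOn A F hU l) ((sectionsEquiv A hU).symm y) = _
  rw [homOn_sections]
  change (sectionsEquiv F hU).symm (l (sectionsEquiv A hU ((sectionsEquiv A hU).symm y))) = _
  rw [LinearEquiv.apply_symm_apply]
  rfl

omit [F.IsQuasicoherent] in
lemma unitRes_app_bijective {W : X.Opens} (hW : W ≤ U) :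
    Function.Bijective ((unitRes F hU).app W) := by
  have hle : W ≤ hU.fromSpec ''ᵁ (hU.fromSpec ⁻¹ᵁ W) := by
    rw [Scheme.Hom.image_preimage_eq_opensRange_inf, hU.opensRange_fromSpec]
    exact le_inf hW le_rfl
  have h : ∀ s, (unitRes F hU).app W s =
      mres F (hU.fromSpec.image_preimage_le W) s := fun s => by
    show ((Scheme.Modules.restrictAdjunction hU.fromSpec).unit.app F).app W s = _
    rw [Scheme.Modules.restrictAdjunction_unit_app_app]
    rfl
  refine ⟨fun a b hab => ?_, fun t => ⟨mres F hle t, ?_⟩⟩
  · rw [h, h] at hab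
    simpa using congrArg (mres F hle) hab
  · rw [h, mres_mres]
    exact mres_refl F _ _

lemma isQuasicoherent_pushRes [IsNoetherian X] : (pushRes F hU).IsQuasicoherent :=
  isQuasicoherent_pushforward _ hU.fromSpec

/-- The cokernel of the unit vanishes on affine opens inside `U`. -/
lemma cokernel_unitRes_app_eq_zero [IsNoetherian X] {W : X.Opens} (hW : IsAffineOpen W)
    (hWU : W ≤ U) (c : Γ(cokernel (unitRes F hU), W)) : c = 0 := by
  have hB := isQuasicoherent_pushRes F hU
  obtain ⟨b, rfl⟩ := app_surjective_of_epi (cokernel.π (unitRes F hU)) hB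
    (isQuasicoherent_cokernel _ ‹_› hB) hW c
  obtain ⟨a, rfl⟩ := (unitRes_app_bijective F hU hWU).2 b
  rw [← ConcreteCategory.comp_apply, ← Scheme.Modules.Hom.comp_app, cokernel.condition]
  rfl

end Groth.Agent.Devissage
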