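import Groth.Agent.Devissage.Functional
import Groth.Agent.Devissage.HomOn
import Groth.Agent.Devissage.General
import Groth.Agent.QCohBase.Support
import Groth.Agent.QCohBase.Push

/-!
# A map from the direct image of the structure sheaf of a finite cover which is generically onto
-/

noncomputable section

universe u

open CategoryTheory Limits AlgebraicGeometry Opposite TopologicalSpace Groth.Agent.QCohBase

namespace Groth.Agent.Devissage

variable {X Y : Scheme.{u}}

/-- A morphism of quasi-coherent modules vanishing on sections over an affine cover is zero. -/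
lemma hom_eq_zero_of_sections {A B : X.Modules} (φ : A ⟶ B) (hA : A.IsQuasicoherent)
    (hB : B.IsQuasicoherent) {ι : Type*} (U : ι → X.Opens) (hU : ∀ i, IsAffineOpen (U i))
    (hcov : ∀ x, ∃ i, x ∈ U i) (h : ∀ i (s : Γ(A, U i)), φ.app (U i) s = 0) : φ = 0 := by
  haveI : Mono (kernel.ι φ) := inferInstance
  haveI := isIso_of_app_surjective (kernel.ι φ) (isQuasicoherent_kernel φ hA hB) hA U hU hcov
    fun i s => sections_exact_left (T := ShortComplex.mk (kernel.ι φ) φ (kernel.condition φ))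
      (ShortComplex.exact_of_f_is_kernel _ (kernelIsKernel φ)) s (h i s)
  rw [← cancel_epi (kernel.ι φ), kernel.condition, comp_zero]

section Powers

variable [AlgebraicGeometry.IsNoetherian X] (f : Y ⟶ X) [IsFinite f]

/-- Functions supported over an open `U` have powers killing every morphism from the direct image
of the structure sheaf to a module vanishing inside `U`. -/
theorem exists_pow_comp_eq_zero (hA : Coh.IsCoh ((Scheme.Modules.pushforward f).obj (Coh.structureModule Y)))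
    (U : X.Opens) {C : X.Modules} (hC : C.IsQuasicoherent)
    (hC0 : ∀ W : X.Opens, IsAffineOpen W → W ≤ U → ∀ c : Γ(C, W), c = 0)
    (χ : (Scheme.Modules.pushforward f).obj (Coh.structureModule Y) ⟶ C)
    (b : Γ(Y, ⊤)) (hb : Y.basicOpen b ≤ f ⁻¹ᵁ U) :
    ∃ n : ℕ, (Scheme.Modules.pushforward f).map
      (SerreAff.mulSec (Coh.structureModule Y) (b ^ n : Γ(Y, ⊤))) ≫ χ = 0 := by
  classical
  obtain ⟨ι, hι, V, hV, hcov⟩ := exists_finite_affine_cover' X
  let A := (Scheme.Modules.pushforward f).obj (Coh.structureModule Y)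
  suffices key : ∀ l, ∃ N : ℕ, ∀ m, N ≤ m → ∀ a : Γ(Y, f ⁻¹ᵁ V l),
      χ.app (V l) (show Γ(A, V l) from ores (le_top : f ⁻¹ᵁ V l ≤ ⊤) b ^ m * a) = 0 by
    choose N hN using key
    obtain ⟨n, hn⟩ := Finite.exists_le N
    refine ⟨n, hom_eq_zero_of_sections _ hA.1 hC V hV hcov fun l s => ?_⟩
    show χ.app (V l) ((SerreAff.mulSec (Coh.structureModule Y) (b ^ n : Γ(Y, ⊤))).app (f ⁻¹ᵁ V l)
      (show Γ(Y, f ⁻¹ᵁ V l) from s)) = 0
    rw [SerreAff.mulSec_app]
    refine Eq.trans (congrArg (fun z => χ.app (V l) z) ?_) (hN l n (hn l) (show Γ(Y, f ⁻¹ᵁ V l) from s))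
    show (show Γ(Y, f ⁻¹ᵁ V l) from s) * ores (le_top : f ⁻¹ᵁ V l ≤ ⊤) (b ^ n) = _
    rw [map_pow, mul_comm]
  intro l
  haveI := isNoetherianRing_sections (hV l)
  haveI : Module.Finite Γ(X, V l) Γ(A, V l) := isFiniteType_toFinite hA (hV l)
  obtain ⟨t, ht⟩ := (Module.Finite.fg_top : (⊤ : Submodule Γ(X, V l) Γ(A, V l)).FG)
  have hcpt : IsCompact ((V l ⊓ U : X.Opens) : Set X) := NoetherianSpace.isCompact _
  choose g hg hxg using fun x : (V l ⊓ U : X.Opens) => (hV l).exists_basicOpen_le ⟨x.1, x.2⟩ x.2.1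
  obtain ⟨s, hs⟩ := hcpt.elim_finite_subcover (fun x => (X.basicOpen (g x) : Set X))
    (fun x => (X.basicOpen (g x)).2) fun x hx => Set.mem_iUnion.2 ⟨⟨x, hx⟩, hxg ⟨x, hx⟩⟩
  have hk : ∀ p : (V l ⊓ U : X.Opens) × Γ(A, V l), ∃ k : ℕ, g p.1 ^ k • χ.app (V l) p.2 = 0 :=
    fun p => exists_pow_smul_eq_zero C (hV l) (g p.1) rfl (X.basicOpen_le _) _
      (hC0 _ ((hV l).basicOpen _) ((hg p.1).trans inf_le_right) _)
  choose k hk using hk
  let K := (s ×ˢ t).sup k
  have hkill : ∀ x ∈ s, ∀ a : Γ(A, V l), g x ^ K • χ.app (V l) a = 0 := by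
    intro x hx a
    have ha : a ∈ Submodule.span Γ(X, V l) (t : Set Γ(A, V l)) := ht.symm ▸ trivial
    induction ha using Submodule.span_induction with
    | mem y hy =>
      obtain ⟨e, he⟩ := Nat.exists_eq_add_of_le
        (Finset.le_sup (f := k) (Finset.mk_mem_product hx hy) : k (x, y) ≤ K)
      rw [show K = k (x, y) + e from he, pow_add, mul_comm, mul_smul, hk (x, y), smul_zero]
    | zero => rw [map_zero, smul_zero]
    | add y z _ _ hy hz => rw [map_add, smul_add, hy, hz, add_zero]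
    | smul r y _ hy => rw [Scheme.Modules.Hom.app_smul, smul_comm, hy, smul_zero]
  let T : Ideal Γ(Y, f ⁻¹ᵁ V l) := Ideal.span ((fun x => f.app (V l) (g x ^ K)) '' s)
  have haff : IsAffineOpen (f ⁻¹ᵁ V l) := (hV l).preimage f
  have hrad : ores (le_top : f ⁻¹ᵁ V l ≤ ⊤) b ∈ T.radical := by
    rw [Ideal.radical_eq_sInf, Submodule.mem_sInf]
    rintro q ⟨hTq, hq⟩
    obtain ⟨y, hy, rfl⟩ := AssPts.exists_point haff q
    by_contra hbq
    have hyb := (mem_basicOpen_iff_notMem_prime haff y hy _).2 hbq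
    rw [basicOpen_ores] at hyb
    obtain ⟨x, hx, hxy⟩ := Set.mem_iUnion₂.1 (hs (show f y ∈ (V l ⊓ U : X.Opens) from ⟨hy, hb hyb.2⟩))
    have hmem : f.app (V l) (g x ^ K) ∈ T := Ideal.subset_span ⟨x, hx, rfl⟩
    have hqg : f.app (V l) (g x) ∈ (haff.primeIdealOf ⟨y, hy⟩).asIdeal := by
      refine (haff.primeIdealOf ⟨y, hy⟩).isPrime.mem_of_pow_mem K ?_
      rw [← map_pow]
      exact hTq hmem
    refine (mem_basicOpen_iff_notMem_prime haff y hy (f.app (V l) (g x))).1 ?_ hqg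
    rw [← Scheme.preimage_basicOpen]
    exact hxy
  obtain ⟨N, hN⟩ := hrad
  refine ⟨N, fun m hm a => ?_⟩
  have hmem : ores (le_top : f ⁻¹ᵁ V l ≤ ⊤) b ^ m * a ∈ T :=
    Ideal.mul_mem_right _ _ (Ideal.pow_mem_of_pow_mem _ hN hm)
  have hz : ∀ c ∈ T, ∀ a' : Γ(Y, f ⁻¹ᵁ V l), χ.app (V l) (show Γ(A, V l) from c * a') = 0 := by
    intro c hc
    induction hc using Submodule.span_induction with
    | mem c hc =>
      intro a'
      obtain ⟨x, hx, rfl⟩ := hc
      have h1 : χ.app (V l) ((g x ^ K) • (show Γ(A, V l) from a')) = 0 := by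
        rw [Scheme.Modules.Hom.app_smul]; exact hkill x hx _
      exact h1
    | zero =>
      intro a'
      rw [zero_mul]
      exact map_zero _
    | add c d _ _ hc hd =>
      intro a'
      have := congrArg₂ (· + ·) (hc a') (hd a')
      rw [add_mul]
      refine (map_add (χ.app (V l)).hom _ _).trans ?_
      exact this.trans (add_zero 0)
    | smul r c _ hc =>
      intro a'
      rw [smul_eq_mul, mul_comm r c, mul_assoc]
      exact hc _
  simpa using hz _ hmem 1

end Powers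

/-- On an integral closed subscheme `Z`, an ideal receives from the direct image of the structure
sheaf of a finite surjective cover a map which is onto at the generic point. -/
theorem exists_hom_generic [AlgebraicGeometry.IsNoetherian X] [IsAffine Y] (f : Y ⟶ X) [IsFinite f]
    [Surjective f] {Z : Scheme.{u}} (i : Z ⟶ X) [IsClosedImmersion i] [IsIntegral Z]
    (hA : Coh.IsCoh ((Scheme.Modules.pushforward f).obj (Coh.structureModule Y)))
    (I : Z.Modules) (ι : I ⟶ Coh.structureModule Z) [Mono ι] (hI : I.IsQuasicoherent)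
    (hI0 : ¬ IsZero I) :
    CohB1.support ((Scheme.Modules.pushforward i).obj I) ⊆ Set.range i ∧
      i (genericPoint Z) ∈ CohB1.support ((Scheme.Modules.pushforward i).obj I) ∧
      ∃ φ : (Scheme.Modules.pushforward f).obj (Coh.structureModule Y) ⟶
          (Scheme.Modules.pushforward i).obj I,
        i (genericPoint Z) ∉ CohB1.support (cokernel φ) := by
  classical
  haveI := hI
  haveI hAq := hA.1
  let A := (Scheme.Modules.pushforward f).obj (Coh.structureModule Y)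
  let F := (Scheme.Modules.pushforward i).obj I
  haveI hF : F.IsQuasicoherent := isQuasicoherent_pushforward I i
  let ζ := genericPoint Z
  let ξ := i ζ
  have hgen : ∀ O : Z.Opens, (O : Set Z).Nonempty → ζ ∈ O := fun O ⟨y, hy⟩ =>
    (genericPoint_specializes y).mem_open O.2 hy
  let k : F ⟶ (Scheme.Modules.pushforward i).obj (Coh.structureModule Z) :=
    (Scheme.Modules.pushforward i).map ι
  haveI : Mono k := (Scheme.Modules.pushforward i).map_mono ι
  have hsub : CohB1.support F ⊆ Set.range i := by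
    intro x hx
    by_contra hxr
    obtain ⟨W, hW, hxW, hWr⟩ := Opens.isBasis_iff_nbhd.1 X.isBasis_affineOpens
      (U := ⟨(Set.range i)ᶜ, i.isClosedEmbedding.isClosed_range.isOpen_compl⟩) hxr
    have hempty : i ⁻¹ᵁ W = ⊥ := le_bot_iff.1 fun y hy => hWr hy ⟨y, rfl⟩
    haveI : Subsingleton Γ(Z, i ⁻¹ᵁ W) := by rw [hempty]; infer_instance
    refine hx ((subsingleton_stalk_iff F hW x hxW).2 fun s => ⟨1, by rw [Scheme.basicOpen_one]; exact hxW, ?_⟩)
    exact app_injective_of_mono k W (@Subsingleton.elim Γ(Z, i ⁻¹ᵁ W) _ _ _)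
  refine ⟨hsub, ?_⟩
  obtain ⟨U, hU, hξU, -⟩ := Opens.isBasis_iff_nbhd.1 X.isBasis_affineOpens (Opens.mem_top ξ)
  let V' : Z.Opens := i ⁻¹ᵁ U
  haveI : Nonempty (V' : Scheme.{u}) := ⟨⟨ζ, hξU⟩⟩
  haveI : Nonempty V' := ⟨⟨ζ, hξU⟩⟩
  haveI : IsDomain Γ(Z, V') := IsIntegral.component_integral V'
  letI algZ : Algebra Γ(X, U) Γ(Z, V') := (i.app U).hom.toAlgebra
  have hsurj : Function.Surjective (algebraMap Γ(X, U) Γ(Z, V')) := i.app_surjective U hU
  have hiff : ∀ r : Γ(X, U), i.app U r = 0 ↔ ξ ∉ X.basicOpen r := by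
    intro r
    constructor
    · intro h hr
      have h' : ζ ∈ i ⁻¹ᵁ X.basicOpen r := hr
      rw [Scheme.preimage_basicOpen, h, Scheme.basicOpen_zero] at h'
      exact h'
    · intro h
      rw [← basicOpen_eq_bot_iff, ← Scheme.preimage_basicOpen]
      exact le_bot_iff.1 fun y hy => absurd (hgen (i ⁻¹ᵁ X.basicOpen r) ⟨y, hy⟩) h
  let κ : Γ(F, U) →ₗ[Γ(X, U)] Γ(Z, V') :=
    { toFun := fun s => (show Γ(Z, V') from k.app U s)
      map_add' := fun a b => map_add (k.app U).hom a b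
      map_smul' := fun r a => Scheme.Modules.Hom.app_smul k r a }
  have hκ : Function.Injective κ := app_injective_of_mono k U
  obtain ⟨e, he⟩ : ∃ e : Γ(F, U), e ≠ 0 := by
    by_contra hne
    push Not at hne
    apply hI0
    obtain ⟨κ', W, hW, hWcov⟩ : ∃ (κ' : Type u) (W : κ' → Z.Opens),
        (∀ j, IsAffineOpen (W j)) ∧ ∀ z, ∃ j, z ∈ W j :=
      ⟨Z.affineOpens, fun j => j.1, fun j => j.2, fun z => by
        obtain ⟨W, hW, hzW, -⟩ := Opens.isBasis_iff_nbhd.1 Z.isBasis_affineOpens (Opens.mem_top z)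
        exact ⟨⟨W, hW⟩, hzW⟩⟩
    refine isZero_of_sections W hW hWcov fun j => ⟨fun a c => ?_⟩
    by_cases hem : ((W j : Z.Opens) : Set Z).Nonempty
    · apply app_injective_of_mono ι (W j)
      refine sub_eq_zero.1 ?_
      rw [← map_sub]
      obtain ⟨g, hg, hζg⟩ := (hU.preimage i).exists_basicOpen_le
        (V := W j ⊓ V') ⟨ζ, hgen _ hem, hξU⟩ hξU
      have hgW : Z.basicOpen g ≤ W j := hg.trans inf_le_left
      obtain ⟨n, y, hy⟩ := exists_pow_smul_eq_mres I (hU.preimage i) g rfl (Z.basicOpen_le g)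
        (mres I hgW (a - c))
      have hy0 : y = 0 := hne y
      rw [hy0, map_zero] at hy
      have hu : IsUnit (ores (Z.basicOpen_le g) g ^ n) :=
        (RingedSpace.isUnit_res_basicOpen _ g).pow _
      have h0 : mres I hgW (a - c) = 0 := hu.smul_eq_zero.1 hy.symm
      haveI : Nonempty (Z.basicOpen g : Z.Opens) := ⟨⟨ζ, hζg⟩⟩
      refine map_injective_of_isIntegral Z (homOfLE hgW) ?_
      refine (app_nat ι hgW (a - c)).trans ?_
      rw [h0, map_zero]
      exact (map_zero _).symm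
    · have hb : W j = ⊥ := le_bot_iff.1 fun y hy => (hem ⟨y, hy⟩).elim
      haveI : Subsingleton Γ(Z, W j) := by rw [hb]; infer_instance
      exact app_injective_of_mono ι (W j) (@Subsingleton.elim Γ(Z, W j) _ _ _)
  have hε : κ e ≠ 0 := fun h => he (hκ (h.trans (map_zero κ).symm))
  have hstalk : ξ ∈ CohB1.support F := by
    intro hS
    obtain ⟨g, hg, hge⟩ := (AssPts.germ_eq_zero_iff F hU ξ hξU e).1 (@Subsingleton.elim _ hS _ _)
    have h1 := congrArg κ hge
    rw [map_smul, map_zero, Algebra.smul_def] at h1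
    exact (hiff g).1 ((mul_eq_zero.1 h1).resolve_right hε)
      ((mem_basicOpen_iff_notMem_prime hU ξ hξU g).2 hg)
  refine ⟨hstalk, ?_⟩
  obtain ⟨η, hη⟩ := f.surjective ξ
  have hηU : η ∈ f ⁻¹ᵁ U := show f η ∈ U from hη.symm ▸ hξU
  obtain ⟨b, hbU, hηb⟩ := (isAffineOpen_top Y).exists_basicOpen_le ⟨η, hηU⟩ trivial
  letI algB : Algebra Γ(X, U) Γ(Y, f ⁻¹ᵁ U) := (f.app U).hom.toAlgebra
  haveI : Module.Finite Γ(X, U) Γ(Y, f ⁻¹ᵁ U) := f.finite_app U hU
  letI algK : Algebra Γ(X, U) (Y.residueField η) :=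
    ((Y.evaluation (f ⁻¹ᵁ U) η hηU).hom.comp (f.app U).hom).toAlgebra
  let ρ : Γ(Y, f ⁻¹ᵁ U) →ₐ[Γ(X, U)] Y.residueField η :=
    { (Y.evaluation (f ⁻¹ᵁ U) η hηU).hom with commutes' := fun r => rfl }
  have hker : ∀ r, algebraMap Γ(X, U) (Y.residueField η) r = 0 ↔
      algebraMap Γ(X, U) Γ(Z, V') r = 0 := fun r => by
    show Y.evaluation (f ⁻¹ᵁ U) η hηU (f.app U r) = 0 ↔ i.app U r = 0
    rw [Scheme.evaluation_eq_zero_iff_notMem_basicOpen, hiff, ← Scheme.preimage_basicOpen]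
    show f η ∉ X.basicOpen r ↔ _
    rw [hη]
  obtain ⟨l₀, hl₀⟩ := exists_functional hsurj hker ρ
  let T : Γ(Y, f ⁻¹ᵁ U) →ₗ[Γ(X, U)] Γ(Z, V') := (LinearMap.mulLeft Γ(X, U) (κ e)).comp l₀
  have hT : ∀ y, T y ∈ LinearMap.range κ := fun y => by
    obtain ⟨r, hr⟩ := hsurj (l₀ y)
    refine ⟨r • e, ?_⟩
    rw [map_smul, Algebra.smul_def, hr, mul_comm]
    rfl
  let l : Γ(A, U) →ₗ[Γ(X, U)] Γ(F, U) :=
    { toFun := fun y => (LinearEquiv.ofInjective κ hκ).symm ⟨T y, hT y⟩
      map_add' := fun a c => by rw [← map_add]; exact congrArg _ (Subtype.ext (map_add T a c))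
      map_smul' := fun r a => by
        rw [RingHom.id_apply, ← map_smul]; exact congrArg _ (Subtype.ext (map_smul T r a)) }
  have hl : ∀ y, κ (l y) = κ e * l₀ y := fun y => by
    show κ ((LinearEquiv.ofInjective κ hκ).symm ⟨T y, hT y⟩) = _
    rw [← LinearEquiv.ofInjective_apply (h := hκ), LinearEquiv.apply_symm_apply]
    rfl
  let u := unitRes F hU
  have hB := isQuasicoherent_pushRes F hU
  obtain ⟨n, hn⟩ := exists_pow_comp_eq_zero f hA U (C := cokernel u)
    (isQuasicoherent_cokernel u hF hB)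
    (fun W hW hWU c => cokernel_unitRes_app_eq_zero F hU hW hWU c)
    (extHom A F hU l ≫ cokernel.π u) b hbU
  have hu : ∀ W, Function.Injective (u.app W) := by
    intro W s t hst
    refine sub_eq_zero.1 ((map_eq_zero_iff _ (app_injective_of_mono k W)).1 ?_)
    have h0 : mres F (hU.fromSpec.image_preimage_le W) (s - t) = 0 := by
      rw [map_sub, sub_eq_zero]
      have h : ∀ s, u.app W s = mres F (hU.fromSpec.image_preimage_le W) s := fun s => by
        show ((Scheme.Modules.restrictAdjunction hU.fromSpec).unit.app F).app W s = _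
        rw [Scheme.Modules.restrictAdjunction_unit_app_app]
        rfl
      rw [← h, ← h, hst]
    by_cases hem : ((i ⁻¹ᵁ W : Z.Opens) : Set Z).Nonempty
    · have hξW : ξ ∈ W := hgen _ hem
      have hle : i ⁻¹ᵁ (hU.fromSpec ''ᵁ (hU.fromSpec ⁻¹ᵁ W)) ≤ i ⁻¹ᵁ W :=
        fun y hy => hU.fromSpec.image_preimage_le W hy
      haveI : Nonempty (i ⁻¹ᵁ (hU.fromSpec ''ᵁ (hU.fromSpec ⁻¹ᵁ W)) : Z.Opens) := ⟨⟨ζ, by
        show ξ ∈ hU.fromSpec ''ᵁ (hU.fromSpec ⁻¹ᵁ W)
        rw [Scheme.Hom.image_preimage_eq_opensRange_inf, hU.opensRange_fromSpec]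
        exact ⟨hξU, hξW⟩⟩⟩
      refine map_injective_of_isIntegral Z (homOfLE hle) ?_
      refine (app_nat k (hU.fromSpec.image_preimage_le W) (s - t)).trans ?_
      rw [h0, map_zero]
      exact (map_zero _).symm
    · have hb : i ⁻¹ᵁ W = ⊥ := le_bot_iff.1 fun y hy => (hem ⟨y, hy⟩).elim
      haveI : Subsingleton Γ(Z, i ⁻¹ᵁ W) := by rw [hb]; infer_instance
      exact @Subsingleton.elim Γ(Z, i ⁻¹ᵁ W) _ _ _
  haveI : Mono u := mono_of_app_injective u hu
  let m := (Scheme.Modules.pushforward f).map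
      (SerreAff.mulSec (Coh.structureModule Y) (b ^ n : Γ(Y, ⊤)))
  have hcond : (m ≫ extHom A F hU l) ≫ cokernel.π u = 0 := by rw [Category.assoc]; exact hn
  let φ := Abelian.monoLift u (m ≫ extHom A F hU l) hcond
  have hφ : φ ≫ u = m ≫ extHom A F hU l := Abelian.monoLift_comp _ _ _
  refine ⟨φ, fun hS => hS ?_⟩
  obtain ⟨y, hy⟩ := hl₀ (ores (le_top : f ⁻¹ᵁ U ≤ ⊤) b ^ n) (by
    rw [map_pow]
    refine pow_ne_zero _ ?_
    show Y.evaluation (f ⁻¹ᵁ U) η hηU (ores (le_top : f ⁻¹ᵁ U ≤ ⊤) b) ≠ 0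
    rw [Scheme.evaluation_ne_zero_iff_mem_basicOpen, basicOpen_ores]
    exact ⟨hηU, hηb⟩)
  let x := φ.app U (show Γ(A, U) from y)
  have hx : x = l (show Γ(A, U) from ores (le_top : f ⁻¹ᵁ U ≤ ⊤) b ^ n * y) := by
    apply hu U
    rw [← extHom_app, ← comp_app_apply, hφ, comp_app_apply]
    refine congrArg ((extHom A F hU l).app U) ?_
    show (SerreAff.mulSec (Coh.structureModule Y) (b ^ n : Γ(Y, ⊤))).app (f ⁻¹ᵁ U) y = _
    rw [SerreAff.mulSec_app]
    show y * ores (le_top : f ⁻¹ᵁ U ≤ ⊤) (b ^ n) = _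
    rw [map_pow, mul_comm]
  obtain ⟨c, hc⟩ := hsurj (κ x)
  have hcne : algebraMap Γ(X, U) Γ(Z, V') c ≠ 0 := by
    rw [hc, hx, hl]
    exact mul_ne_zero hε hy
  haveI hFq := hF
  haveI hCq : (cokernel φ).IsQuasicoherent := isQuasicoherent_cokernel φ hA.1 hF
  refine (subsingleton_stalk_iff (cokernel φ) hU ξ hξU).2 fun s => ⟨c, ?_, ?_⟩
  · by_contra h
    exact hcne ((hiff c).2 h)
  · obtain ⟨z, rfl⟩ := app_surjective_of_epi (cokernel.π φ) hF hCq hU s
    obtain ⟨c', hc'⟩ := hsurj (κ z)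
    have hcz : c • z = c' • x := hκ (by
      rw [map_smul, map_smul, Algebra.smul_def, Algebra.smul_def, hc, hc', mul_comm])
    have h0 : (cokernel.π φ).app U (c • z) = 0 := by
      rw [hcz, ← Scheme.Modules.Hom.app_smul φ c' (show Γ(A, U) from y), ← comp_app_apply,
        cokernel.condition]
      rfl
    rw [← Scheme.Modules.Hom.app_smul, h0]

end Groth.Agent.Devissage
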