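import Groth.Agent.Devissage.Filtration
import Groth.Agent.Devissage.FiniteSurjective
import Groth.Agent.QCohBase.HighDegree
import Groth.Agent.QCohBase.SupportExact
import Groth.Agent.Affineness.Serre

/-!
# Chevalley: affineness descends along finite surjective maps
-/

noncomputable section

universe u

open CategoryTheory Limits AlgebraicGeometry Opposite TopologicalSpace Groth.Agent.QCohBase

namespace Groth.Agent.Devissage

variable {X Y : Scheme.{u}}

lemma isCoh_structureModule (X : Scheme.{u}) : Coh.IsCoh (Coh.structureModule X) :=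
  (isCoh_iff _).2 ⟨AssPts.isQuasicoherent_structureModule X, fun U _ => Module.Finite.self Γ(X, U)⟩

lemma subsingleton_HH_middle {T : ShortComplex X.Modules} (hT : T.ShortExact) (q : ℕ)
    (h₁ : Subsingleton (Coh.HH X T.X₁ q)) (h₃ : Subsingleton (Coh.HH X T.X₃ q)) :
    Subsingleton (Coh.HH X T.X₂ q) := by
  refine subsingleton_of_forall_eq 0 fun x => ?_
  have hT' : (T.map (modAb X)).ShortExact := toAb_shortExact hT
  have h := Abelian.Ext.covariant_sequence_exact₂ _ hT' x
  obtain ⟨y, hy⟩ := h (@Subsingleton.elim (Coh.HH X T.X₃ q) h₃ _ _)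
  rw [← hy, show y = 0 from h₁.elim y 0]
  exact Abelian.Ext.zero_comp _ _ _ _ _

lemma subsingleton_HH_right {T : ShortComplex X.Modules} (hT : T.ShortExact) (q : ℕ)
    (h₂ : Subsingleton (Coh.HH X T.X₂ q)) (h₁ : Subsingleton (Coh.HH X T.X₁ (q + 1))) :
    Subsingleton (Coh.HH X T.X₃ q) := by
  refine subsingleton_of_forall_eq 0 fun x => ?_
  have hT' : (T.map (modAb X)).ShortExact := toAb_shortExact hT
  have h := Abelian.Ext.covariant_sequence_exact₃ _ hT' x (n₁ := q + 1) rfl
  obtain ⟨y, hy⟩ := h (@Subsingleton.elim (Coh.HH X T.X₁ (q + 1)) h₁ _ _)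
  rw [← hy, show y = 0 from h₂.elim y 0]
  exact Abelian.Ext.zero_comp _ _ _ _ _

lemma shortExact_of_isIso {M N : X.Modules} (e : M ⟶ N) [IsIso e] :
    (ShortComplex.mk e (cokernel.π e) (cokernel.condition e)).ShortExact :=
  { exact := ShortComplex.exact_of_g_is_cokernel _ (cokernelIsCokernel e)
    mono_f := inferInstanceAs (Mono e)
    epi_g := inferInstanceAs (Epi (cokernel.π e)) }

lemma isZero_cokernel_of_isIso {M N : X.Modules} (e : M ⟶ N) [IsIso e] : IsZero (cokernel e) :=
  isZero_cokernel_of_epi e

lemma subsingleton_HH_of_isZero {M : X.Modules} (h : IsZero M) (q : ℕ) :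
    Subsingleton (Coh.HH X M q) := by
  have hz : IsZero (Coh.toAb M) := Functor.map_isZero (modAb X) h
  refine subsingleton_of_forall_eq 0 fun x => ?_
  have : x.comp (Abelian.Ext.mk₀ (𝟙 (Coh.toAb M))) (add_zero q) = x := Abelian.Ext.comp_mk₀_id x
  rw [← this, hz.eq_of_src (𝟙 _) 0, Abelian.Ext.mk₀_zero, Abelian.Ext.comp_zero]

lemma subsingleton_HH_of_iso {M N : X.Modules} (e : M ≅ N) (q : ℕ)
    (h : Subsingleton (Coh.HH X M q)) : Subsingleton (Coh.HH X N q) :=
  subsingleton_HH_middle (shortExact_of_isIso e.hom) q h
    (subsingleton_HH_of_isZero (isZero_cokernel_of_isIso e.hom) q)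

lemma support_eq_of_iso {M N : X.Modules} (e : M ≅ N) : CohB1.support M = CohB1.support N := by
  ext x
  let e' := ((Scheme.Modules.toPresheaf X) ⋙ TopCat.Presheaf.stalkFunctor Ab.{u} x).mapIso e
  exact not_congr e'.addCommGroupIsoToAddEquiv.toEquiv.subsingleton_congr

/-- Vanishing on the finite cover. -/
lemma subsingleton_HH_push [IsAffine Y] (f : Y ⟶ X) [IsAffineHom f] (M : Y.Modules)
    [Coh.IsQCoh M] {q : ℕ} (hq : 0 < q) :
    Subsingleton (Coh.HH X ((Scheme.Modules.pushforward f).obj M) q) := by
  obtain ⟨e⟩ := CovSystem.nonempty_H_push_equiv (S := affineSystem Y) f.base {V | IsAffineOpen V}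
    X.isBasis_affineOpens (fun V hV => IsAffineOpen.preimage hV f) (acyclic_of_isQCoh M) q
  exact @Equiv.subsingleton _ _ e.symm.toEquiv (subsingleton_HH_of_isAffine M hq)

/-- Cohomology of coherent modules vanishes when a finite surjective cover is affine. -/
theorem subsingleton_HH_of_finite_surjective [AlgebraicGeometry.IsNoetherian X] [IsAffine Y]
    (f : Y ⟶ X) [IsFinite f] [Surjective f] (M : X.Modules) (hM : Coh.IsCoh M) (q : ℕ)
    (hq : 0 < q) : Subsingleton (Coh.HH X M q) := by
  haveI : AlgebraicGeometry.IsLocallyNoetherian Y :=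
    LocallyOfFiniteType.isLocallyNoetherian f
  have hA : Coh.IsCoh ((Scheme.Modules.pushforward f).obj (Coh.structureModule Y)) :=
    isCoh_pushforward_of_isFinite f (isCoh_structureModule Y)
  obtain ⟨d, hd⟩ := exists_bound_subsingleton_HH X
  suffices key : ∀ j q, 0 < q → d ≤ q + j → ∀ M : X.Modules, Coh.IsCoh M →
      Subsingleton (Coh.HH X M q) from key d q hq (by omega) M hM
  intro j
  induction j with
  | zero => exact fun q _ h M hM => hd M hM.1 q h
  | succ j ih =>
    intro q hq hdq
    have hnext : ∀ M : X.Modules, Coh.IsCoh M → Subsingleton (Coh.HH X M (q + 1)) :=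
      ih (q + 1) (by omega) (by omega)
    suffices step : ∀ T : Closeds X, ∀ M : X.Modules, Coh.IsCoh M →
        CohB1.support M ⊆ T → Subsingleton (Coh.HH X M q) from
      fun M hM => step ⊤ M hM (Set.subset_univ _)
    intro T
    induction T using WellFoundedLT.induction with
    | ind T ihT =>
      intro M hM hsupp
      obtain ⟨M', hfilt, ⟨e⟩⟩ := filt_of_isCoh hM
      refine subsingleton_HH_of_iso e q ?_
      rw [← support_eq_of_iso e] at hsupp
      clear e hM
      induction hfilt with
      | @zero N h hN => exact subsingleton_HH_of_isZero h q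
      | @step N N' hN ψ hψ hN' Z i hi hZ I ι hι hI hI0 he ihN =>
        obtain ⟨e⟩ := he
        let S := ShortComplex.mk ψ (cokernel.π ψ) (cokernel.condition ψ)
        have hS : S.ShortExact :=
          { exact := ShortComplex.exact_of_g_is_cokernel _ (cokernelIsCokernel ψ)
            mono_f := hψ
            epi_g := inferInstanceAs (Epi (cokernel.π ψ)) }
        have hsu := support_of_shortExact hS hN.isCoh.1 hN'.1
          (isQuasicoherent_cokernel ψ hN.isCoh.1 hN'.1)
        rw [hsu] at hsupp
        refine subsingleton_HH_middle hS q (ihN (Set.subset_union_left.trans hsupp))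
          (subsingleton_HH_of_iso e.symm q ?_)
        have hsupp3 : CohB1.support ((Scheme.Modules.pushforward i).obj I) ⊆ T := by
          rw [← support_eq_of_iso e]
          exact Set.subset_union_right.trans hsupp
        let F := (Scheme.Modules.pushforward i).obj I
        haveI hIq : I.IsQuasicoherent := hI
        have hFc : Coh.IsCoh F := by
          haveI : AlgebraicGeometry.IsLocallyNoetherian Z := LocallyOfFiniteType.isLocallyNoetherian i
          exact isCoh_pushforward_of_isFinite i (isCoh_of_mono ι (isCoh_structureModule Z) hI)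
        obtain ⟨-, hξ, φ, hξC⟩ := exists_hom_generic f i hA I ι hI hI0
        let T₁ := ShortComplex.mk (kernel.ι (cokernel.π φ)) (cokernel.π φ) (kernel.condition _)
        have hT₁ : T₁.ShortExact :=
          { exact := ShortComplex.exact_of_f_is_kernel _ (kernelIsKernel _)
            mono_f := inferInstanceAs (Mono (kernel.ι (cokernel.π φ)))
            epi_g := inferInstanceAs (Epi (cokernel.π φ)) }
        have hCc : Coh.IsCoh (cokernel φ) := isCoh_cokernel φ hA.1 hFc
        have hsC : CohB1.support (cokernel φ) ⊆ T := by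
          refine Set.Subset.trans ?_ hsupp3
          rw [show CohB1.support F = _ from support_of_shortExact hT₁
            (isQuasicoherent_kernel _ hFc.1 hCc.1) hFc.1 hCc.1]
          exact Set.subset_union_right
        refine subsingleton_HH_middle hT₁ q ?_ (ihT
          ⟨CohB1.support (cokernel φ), isClosed_support _ hCc.2⟩
          (lt_of_le_of_ne hsC fun h => hξC ?_) _ hCc subset_rfl)
        · let T₂ := ShortComplex.mk (kernel.ι φ) (Abelian.factorThruImage φ)
            (by rw [← cancel_mono (Abelian.image.ι φ), Category.assoc, Abelian.image.fac,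
              kernel.condition, zero_comp])
          have hT₂ : T₂.ShortExact :=
            { exact := ShortComplex.exact_of_f_is_kernel _ (KernelFork.IsLimit.ofι _ _
                (fun {W} a ha => kernel.lift φ a
                  (by rw [← Abelian.image.fac φ, ← Category.assoc, ha, zero_comp]))
                (fun a ha => kernel.lift_ι _ _ _)
                (fun a ha b hb => by
                  rw [← cancel_mono (kernel.ι φ), kernel.lift_ι]; exact hb))
              mono_f := inferInstanceAs (Mono (kernel.ι φ))
              epi_g := inferInstanceAs (Epi (Abelian.factorThruImage φ)) }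
          haveI : Coh.IsQCoh (Coh.structureModule Y) := AssPts.isQuasicoherent_structureModule Y
          exact subsingleton_HH_right hT₂ q (subsingleton_HH_push f _ hq)
            (hnext _ (isCoh_kernel φ hA hFc.1))
        · exact (congrArg (fun D : Closeds X => (D : Set X)) h).ge (hsupp3 hξ)

end Groth.Agent.Devissage
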