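import Groth.Agent.Devissage.Sub
import Groth.Agent.RPushQCoh.Qcoh

/-!
# Devissage: filtrations of coherent modules by ideals of integral closed subschemes
-/

noncomputable section

universe u

open CategoryTheory Limits AlgebraicGeometry Opposite TopologicalSpace Groth.Agent.QCohBase

namespace Groth.Agent.Devissage

variable {X : Scheme.{u}}

/-- Coherent modules with a finite filtration by direct images of nonzero ideals of integral closed
subschemes. -/
inductive Filt : X.Modules → Prop
  | zero {N : X.Modules} (h : IsZero N) (hN : Coh.IsCoh N) : Filt N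
  | step {N N' : X.Modules} (hN : Filt N) (φ : N ⟶ N') [Mono φ] (hN' : Coh.IsCoh N')
      (Z : Scheme.{u}) (i : Z ⟶ X) (hi : IsClosedImmersion i) (hZ : IsIntegral Z)
      (I : Z.Modules) (ι : I ⟶ Coh.structureModule Z) (hι : Mono ι) (hI : Coh.IsQCoh I)
      (hI₀ : ¬ IsZero I) (he : Nonempty (cokernel φ ≅ (Coh.push i).obj I)) : Filt N'

lemma Filt.isCoh {N : X.Modules} (h : Filt N) : Coh.IsCoh N := by
  cases h <;> assumption

variable [AlgebraicGeometry.IsNoetherian X]

lemma exists_extension {M : X.Modules} (hM : Coh.IsCoh M) (P : Subobject M)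
    (hP : (P : X.Modules).IsQuasicoherent) (hfilt : Filt (P : X.Modules))
    (hne : ¬ IsZero (cokernel P.arrow)) :
    ∃ P' : Subobject M, P < P' ∧ (P' : X.Modules).IsQuasicoherent ∧ Filt (P' : X.Modules) := by
  haveI hMq : M.IsQuasicoherent := ((isCoh_iff M).1 hM).1
  haveI hQ : (cokernel P.arrow).IsQuasicoherent := isQuasicoherent_cokernel _ hP hMq
  obtain ⟨Z, i, hi, hZ, I, ι, hι, hIq, hI, hpI, g, hg⟩ := exists_mono_push_ideal hne
  let π : M ⟶ cokernel P.arrow := cokernel.π _
  have hgq : (cokernel g).IsQuasicoherent := isQuasicoherent_cokernel g hpI hQ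
  let θ := π ≫ cokernel.π g
  let n : (P : X.Modules) ⟶ kernel θ :=
    kernel.lift θ P.arrow (by rw [← Category.assoc, cokernel.condition, zero_comp])
  have hn : n ≫ kernel.ι θ = P.arrow := kernel.lift_ι _ _ _
  haveI : Mono (n ≫ kernel.ι θ) := hn.symm ▸ inferInstance
  haveI : Mono n := mono_of_mono n (kernel.ι θ)
  let q : kernel θ ⟶ (Scheme.Modules.pushforward i).obj I :=
    Abelian.monoLift g (kernel.ι θ ≫ π) (by rw [Category.assoc]; exact kernel.condition θ)
  have hq : q ≫ g = kernel.ι θ ≫ π := Abelian.monoLift_comp _ _ _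
  have hnq : n ≫ q = 0 := by
    rw [← cancel_mono g, Category.assoc, hq, ← Category.assoc, hn, cokernel.condition, zero_comp]
  haveI : Epi q := by
    rw [epi_iff_surjective_up_to_refinements]
    intro A y
    obtain ⟨A', p, hp, x, hx⟩ := surjective_up_to_refinements_of_epi π (y ≫ g)
    have hxθ : x ≫ θ = 0 := by
      rw [← Category.assoc, ← hx, Category.assoc, Category.assoc, cokernel.condition, comp_zero, comp_zero]
    refine ⟨A', p, hp, kernel.lift θ x hxθ, ?_⟩
    rw [← cancel_mono g, Category.assoc, Category.assoc, hq, kernel.lift_ι_assoc, hx]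
  let T : ShortComplex X.Modules := ShortComplex.mk n q hnq
  have hT : T.ShortExact :=
    { exact := ShortComplex.exact_of_f_is_kernel _ (KernelFork.IsLimit.ofι _ _
        (fun {A} a ha => Abelian.monoLift P.arrow (a ≫ kernel.ι θ)
          (by rw [Category.assoc]; show a ≫ kernel.ι θ ≫ π = 0; rw [← hq, reassoc_of% ha, zero_comp]))
        (fun {A} a ha => by
          rw [← cancel_mono (kernel.ι θ), Category.assoc]
          show _ ≫ n ≫ kernel.ι θ = _
          rw [hn, Abelian.monoLift_comp])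
        (fun {A} a ha b hb => by
          rw [← cancel_mono P.arrow, Abelian.monoLift_comp, ← hb, Category.assoc]
          show b ≫ P.arrow = b ≫ n ≫ kernel.ι θ
          rw [hn]))
      mono_f := inferInstanceAs (Mono n)
      epi_g := inferInstanceAs (Epi q) }
  let P' : Subobject M := Subobject.mk (kernel.ι θ)
  let e : (P' : X.Modules) ≅ kernel θ := Subobject.underlyingIso _
  have hqθ : (kernel θ).IsQuasicoherent := isQuasicoherent_kernel θ hMq hgq
  have hcoh : Coh.IsCoh (P' : X.Modules) :=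
    isCoh_of_mono P'.arrow hM (RPushQCoh.qcoh_of_iso e.symm hqθ)
  have hle : P ≤ P' := Subobject.le_mk_of_comm n hn
  have hcoker : Nonempty (cokernel (n ≫ e.inv) ≅ (Coh.push i).obj I) :=
    ⟨cokernelCompIsIso n e.inv ≪≫
      IsColimit.coconePointUniqueUpToIso (cokernelIsCokernel n) hT.gIsCokernel⟩
  refine ⟨P', lt_of_le_of_ne hle fun heq => hI ?_, RPushQCoh.qcoh_of_iso e.symm hqθ,
    Filt.step hfilt (n ≫ e.inv) hcoh Z i hi hZ I ι hι hIq hI hcoker⟩
  obtain ⟨a, ha⟩ : ∃ a : kernel θ ⟶ (P : X.Modules), a ≫ P.arrow = kernel.ι θ :=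
    ⟨Subobject.ofMkLE (kernel.ι θ) P heq.ge, Subobject.ofMkLE_arrow _⟩
  have hq0 : q = 0 := by
    rw [← cancel_mono g, hq, ← ha, Category.assoc, cokernel.condition, comp_zero, zero_comp]
  have hz : IsZero ((Scheme.Modules.pushforward i).obj I) := by
    rw [IsZero.iff_id_eq_zero, ← cancel_epi q, hq0, zero_comp, zero_comp]
  exact isZero_of_push i I hz
where
  isZero_of_push {Z : Scheme.{u}} (i : Z ⟶ X) [IsClosedImmersion i] (I : Z.Modules)
      (hz : IsZero ((Scheme.Modules.pushforward i).obj I)) : IsZero I := by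
    rw [IsZero.iff_id_eq_zero]
    ext V t
    obtain ⟨V', hV'⟩ : ∃ W : X.Opens, i ⁻¹ᵁ W = V := by
      obtain ⟨W, hW, hW'⟩ := i.isClosedEmbedding.isInducing.isOpen_iff.1 V.2
      exact ⟨⟨W, hW⟩, Opens.ext hW'⟩
    subst hV'
    exact congr(($((IsZero.iff_id_eq_zero _).1 hz)).app V' t)

/-- Devissage. -/
theorem filt_of_isCoh {M : X.Modules} (hM : Coh.IsCoh M) :
    ∃ M' : X.Modules, Filt M' ∧ Nonempty (M' ≅ M) := by
  haveI hwf : WellFoundedGT {P : Subobject M // (P : X.Modules).IsQuasicoherent} := by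
    rw [wellFoundedGT_iff_monotone_chain_condition]
    intro a
    obtain ⟨n, hn⟩ := chain_stabilizes hM ⟨fun k => (a k).1, fun _ _ h => a.monotone h⟩
      (fun k => (a k).2)
    exact ⟨n, fun m hm => Subtype.ext (hn m hm).symm⟩
  have hz : IsZero ((⊥ : Subobject M) : X.Modules) :=
    (isZero_zero _).of_iso Subobject.botCoeIsoZero
  have hq : ((⊥ : Subobject M) : X.Modules).IsQuasicoherent := RPushQCoh.isQuasicoherent_of_isZero hz
  obtain ⟨P, hP, hmax⟩ :=
    (wellFounded_gt : WellFounded (α := {P : Subobject M // (P : X.Modules).IsQuasicoherent})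
      (· > ·)).has_min {P | Filt (P.1 : X.Modules)}
      ⟨⟨⊥, hq⟩, Filt.zero hz (isCoh_of_mono (⊥ : Subobject M).arrow hM hq)⟩
  refine ⟨_, hP, ?_⟩
  by_cases hc : IsZero (cokernel P.1.arrow)
  · haveI : Epi P.1.arrow := Preadditive.epi_of_isZero_cokernel _ hc
    haveI : IsIso P.1.arrow := isIso_of_mono_of_epi _
    exact ⟨asIso P.1.arrow⟩
  · obtain ⟨P', hlt, hq', hf⟩ := exists_extension hM P.1 P.2 hP hc
    exact absurd hlt (hmax ⟨P', hq'⟩ hf)

end Groth.Agent.Devissage
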