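import Groth.Agent.CohFinite.Devissage
import Groth.Agent.SchImageLib.Reduced
import Groth.Agent.DCohBridge.StalkExact

/-!
# Devissage for properties with two out of three
-/

noncomputable section

universe u

open CategoryTheory Limits AlgebraicGeometry Opposite TopologicalSpace Groth.Agent.QCohBase

namespace Groth.Agent.Devissage

variable {X : Scheme.{u}}

/-- A class of coherent modules supported in a closed set, containing zero, invariant under
isomorphisms and with two out of three in short exact sequences. -/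
structure Two (P : X.Modules → Prop) (T : Set X) : Prop where
  iso : ∀ M N : X.Modules, Nonempty (M ≅ N) → P M → P N
  zero : ∀ M : X.Modules, IsZero M → P M
  two : ∀ S : ShortComplex X.Modules, S.ShortExact → Coh.IsCoh S.X₁ → Coh.IsCoh S.X₂ →
    Coh.IsCoh S.X₃ → CohB1.support S.X₂ ⊆ T →
      (P S.X₁ → P S.X₂ → P S.X₃) ∧ (P S.X₁ → P S.X₃ → P S.X₂) ∧ (P S.X₂ → P S.X₃ → P S.X₁)

lemma ses {M N : X.Modules} (f : M ⟶ N) [Mono f] :
    (ShortComplex.mk f (cokernel.π f) (cokernel.condition f)).ShortExact :=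
  { exact := ShortComplex.exact_of_g_is_cokernel _ (cokernelIsCokernel f)
    mono_f := inferInstanceAs (Mono f)
    epi_g := inferInstanceAs (Epi (cokernel.π f)) }

variable [AlgebraicGeometry.IsNoetherian X]

set_option linter.unusedSectionVars false

lemma isCoh_push {Z : Scheme.{u}} (i : Z ⟶ X) [IsClosedImmersion i] {I : Z.Modules}
    (ι : I ⟶ Coh.structureModule Z) [Mono ι] (hI : Coh.IsQCoh I) :
    Coh.IsCoh ((Coh.push i).obj I) ∧ Coh.IsCoh ((Coh.push i).obj (Coh.structureModule Z)) := by
  haveI : AlgebraicGeometry.IsLocallyNoetherian Z := LocallyOfFiniteType.isLocallyNoetherian i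
  exact ⟨isCoh_pushforward_of_isFinite i (isCoh_of_mono ι (isCoh_structureModule Z) hI),
    isCoh_pushforward_of_isFinite i (isCoh_structureModule Z)⟩

/-- Integral closed subschemes with the same generic point have isomorphic structure modules. -/
lemma push_structure_iso {Z Z' : Scheme.{u}} (i : Z ⟶ X) (i' : Z' ⟶ X) [IsClosedImmersion i]
    [IsClosedImmersion i'] [IsReduced Z] [IsReduced Z']
    (h : Set.range i = Set.range i') :
    Nonempty ((Coh.push i).obj (Coh.structureModule Z) ≅
      (Coh.push i').obj (Coh.structureModule Z')) := by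
  have hk : i.ker = i'.ker := by
    rw [SchImageLib.ker_eq_vanishingIdeal, SchImageLib.ker_eq_vanishingIdeal]
    congr 1
    exact Closeds.ext (congrArg closure h)
  let e : Z' ⟶ Z := IsClosedImmersion.lift i i' hk.le
  have he : e ≫ i = i' := IsClosedImmersion.lift_fac _ _ _
  haveI : IsIso e := by
    refine ⟨IsClosedImmersion.lift i' i hk.ge, ?_, ?_⟩
    · rw [← cancel_mono i', Category.assoc, IsClosedImmersion.lift_fac, he, Category.id_comp]
    · rw [← cancel_mono i, Category.assoc, he, IsClosedImmersion.lift_fac, Category.id_comp]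
  let ρ := ClSub.unitToPush e
  haveI : IsIso ρ := by
    apply +allowSynthFailures Scheme.Modules.Hom.isIso_iff_isIso_app.mpr
    intro U
    rw [ConcreteCategory.isIso_iff_bijective]
    exact ConcreteCategory.bijective_of_isIso (e.app U)
  exact ⟨(Coh.push i).mapIso (asIso ρ) ≪≫ (Scheme.Modules.pushforwardComp e i).app _ ≪≫
    (Scheme.Modules.pushforwardCongr he).app _⟩

/-- A closed set containing the image of the generic point contains the range. -/
lemma range_subset_of_generic {Z : Scheme.{u}} (i : Z ⟶ X) [IsIntegral Z] {T : Set X}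
    (hT : IsClosed T) (h : i (genericPoint Z) ∈ T) : Set.range i ⊆ T :=
  Set.range_subset_iff.2 fun y => closure_minimal (Set.singleton_subset_iff.2 h) hT
    (((genericPoint_specializes y).map i.continuous).mem_closure)

lemma range_eq_closure {Z : Scheme.{u}} (i : Z ⟶ X) [IsClosedImmersion i] [IsIntegral Z] :
    Set.range i = closure {i (genericPoint Z)} :=
  (range_subset_of_generic i isClosed_closure (subset_closure (Set.mem_singleton _))).antisymm
    (closure_minimal (Set.singleton_subset_iff.2 (Set.mem_range_self _)) i.isClosedEmbedding.isClosed_range)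

/-- A nonzero ideal and the structure sheaf of an integral closed subscheme. -/
lemma Two.ideal_iff {P : X.Modules → Prop} {T : Set X} (hP : Two P T) (hT : IsClosed T) {ξ : X}
    {Z : Scheme.{u}} (i : Z ⟶ X) [IsClosedImmersion i] [IsIntegral Z]
    (hiT : i (genericPoint Z) = ξ) (hξT : ξ ∈ T)
    (small : ∀ M : X.Modules, Coh.IsCoh M → CohB1.support M ⊆ T → ξ ∉ CohB1.support M → P M)
    {I : Z.Modules} (ι : I ⟶ Coh.structureModule Z) [Mono ι] (hI : Coh.IsQCoh I)
    (hI₀ : ¬ IsZero I) :
    P ((Coh.push i).obj I) ↔ P ((Coh.push i).obj (Coh.structureModule Z)) := by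
  obtain ⟨hc, hO⟩ := isCoh_push i ι hI
  obtain ⟨-, hξC, hsO⟩ := CohFinite.ideal_generic i I ι hI hI₀
  haveI : Mono ((Coh.push i).map ι) := (Scheme.Modules.pushforward i).map_mono ι
  have hS := ses ((Coh.push i).map ι)
  have hcC : Coh.IsCoh (cokernel ((Coh.push i).map ι)) := isCoh_cokernel _ hc.1 hO
  have hOT : CohB1.support ((Coh.push i).obj (Coh.structureModule Z)) ⊆ T :=
    hsO.trans (closure_minimal (Set.singleton_subset_iff.2 (hiT ▸ hξT)) hT)
  have hC : P (cokernel ((Coh.push i).map ι)) := by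
    refine small _ hcC ?_ (hiT ▸ hξC)
    exact (Set.subset_union_right.trans_eq (support_of_shortExact hS hc.1 hO.1 hcC.1).symm).trans hOT
  have h := hP.two _ hS hc hO hcC hOT
  exact ⟨fun h' => h.2.1 h' hC, fun h' => h.2.2 h' hC⟩

/-- Devissage in one irreducible closed set. -/
theorem Two.of_structure {P : X.Modules → Prop} {T : Set X} (hP : Two P T) (hT : IsClosed T)
    {ξ : X} (hξ : closure {ξ} = T)
    (small : ∀ M : X.Modules, Coh.IsCoh M → CohB1.support M ⊆ T → ξ ∉ CohB1.support M → P M)
    {Z₀ : Scheme.{u}} (i₀ : Z₀ ⟶ X) [IsClosedImmersion i₀] [IsIntegral Z₀]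
    (h₀ : i₀ (genericPoint Z₀) = ξ) (hO : P ((Coh.push i₀).obj (Coh.structureModule Z₀)))
    (M : X.Modules) (hM : Coh.IsCoh M) (hs : CohB1.support M ⊆ T) : P M := by
  obtain ⟨M', hM', ⟨e⟩⟩ := filt_of_isCoh hM
  refine hP.iso M' M ⟨e⟩ ?_
  rw [← support_eq_of_iso e] at hs
  clear e hM
  induction hM' with
  | @zero N h hN => exact hP.zero N h
  | @step N N' hN ψ hψ hN' Z i hi hZ I ι hι hI hI₀ he ih =>
    obtain ⟨e⟩ := he
    have hS := ses ψ
    have hcok : Coh.IsCoh (cokernel ψ) := isCoh_cokernel ψ hN.isCoh.1 hN'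
    have hsu := support_of_shortExact hS hN.isCoh.1 hN'.1 hcok.1
    have hs₁ : CohB1.support N ⊆ T := (Set.subset_union_left.trans_eq hsu.symm).trans hs
    have hs₃ : CohB1.support ((Coh.push i).obj I) ⊆ T := by
      rw [← support_eq_of_iso e]
      exact (Set.subset_union_right.trans_eq hsu.symm).trans hs
    refine (hP.two _ hS hN.isCoh hN' hcok hs).2.1 (ih hs₁) (hP.iso _ _ ⟨e.symm⟩ ?_)
    obtain ⟨hg, -, hsO⟩ := CohFinite.ideal_generic i I ι hI hI₀
    by_cases hξi : i (genericPoint Z) = ξ
    · rw [hP.ideal_iff hT i hξi (hξ ▸ subset_closure (Set.mem_singleton _)) small ι hI hI₀]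
      have hr : Set.range i₀ = Set.range i := by
        rw [range_eq_closure i₀, range_eq_closure i, h₀, hξi]
      exact hP.iso _ _ (push_structure_iso i₀ i hr) hO
    · refine small _ (isCoh_push i ι hI).1 hs₃ fun hin => hξi ?_
      have h1 : i (genericPoint Z) ⤳ ξ := by
        obtain ⟨hsub, hsubO⟩ := isCoh_push i ι hI
        haveI : Mono ((Coh.push i).map ι) := (Scheme.Modules.pushforward i).map_mono ι
        exact specializes_iff_mem_closure.2 (hsO ((Set.subset_union_left.trans_eq
          (support_of_shortExact (ses ((Coh.push i).map ι)) hsub.1 hsubO.1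
            (isCoh_cokernel _ hsub.1 hsubO).1).symm) hin))
      have h2 : ξ ⤳ i (genericPoint Z) :=
        specializes_iff_mem_closure.2 (hξ ▸ hs₃ hg)
      exact (h1.antisymm h2).eq

/-- The integral closed subscheme with given generic point. -/
lemma exists_integral_closed (ξ : X) :
    ∃ (Z : Scheme.{u}) (i : Z ⟶ X), IsClosedImmersion i ∧ IsIntegral Z ∧
      Set.range i = closure {ξ} ∧ ∀ _ : IsIntegral Z, i (genericPoint Z) = ξ := by
  let I := Scheme.IdealSheafData.vanishingIdeal (X := X) ⟨closure {ξ}, isClosed_closure⟩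
  haveI := Groth.Agent.FpqcDescent.isReduced_subscheme_vanishingIdeal (X := X) ⟨closure {ξ}, isClosed_closure⟩
  have hr : Set.range I.subschemeι = closure ({ξ} : Set X) := by
    rw [Scheme.IdealSheafData.range_subschemeι, Scheme.IdealSheafData.coe_support_vanishingIdeal]
    rfl
  haveI : IrreducibleSpace I.subscheme := by
    let hh := I.subschemeι.isClosedEmbedding.isEmbedding.toHomeomorph
    haveI : IrreducibleSpace (Set.range I.subschemeι) :=
      Subtype.irreducibleSpace (hr ▸ isIrreducible_singleton.closure)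
    exact hh.symm.surjective.irreducibleSpace hh.symm.continuous
  have hint : IsIntegral I.subscheme := isIntegral_of_irreducibleSpace_of_isReduced _
  refine ⟨I.subscheme, I.subschemeι, inferInstance, hint, hr, fun _ => ?_⟩
  have h := (range_eq_closure I.subschemeι).symm.trans hr
  exact ((specializes_iff_mem_closure.2 (h ▸ subset_closure (Set.mem_singleton _))).antisymm
    (specializes_iff_mem_closure.2 (h ▸ subset_closure (Set.mem_singleton _)))).eq

/-- The support of the direct image of an ideal. -/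
lemma support_push_subset {Z : Scheme.{u}} (i : Z ⟶ X) [IsClosedImmersion i] [IsIntegral Z]
    {I : Z.Modules} (ι : I ⟶ Coh.structureModule Z) [Mono ι] (hI : Coh.IsQCoh I) (hI₀ : ¬ IsZero I) :
    CohB1.support ((Coh.push i).obj I) ⊆ closure {i (genericPoint Z)} := by
  obtain ⟨-, -, hsO⟩ := CohFinite.ideal_generic i I ι hI hI₀
  obtain ⟨hsub, hsubO⟩ := isCoh_push i ι hI
  haveI : Mono ((Coh.push i).map ι) := (Scheme.Modules.pushforward i).map_mono ι
  exact (Set.subset_union_left.trans_eq (support_of_shortExact (ses ((Coh.push i).map ι)) hsub.1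
    hsubO.1 (isCoh_cokernel _ hsub.1 hsubO).1).symm).trans hsO

/-- A class closed under extensions containing the ideals of integral closed subschemes. -/
theorem of_ideals {P : X.Modules → Prop} (iso : ∀ M N : X.Modules, Nonempty (M ≅ N) → P M → P N)
    (zero : ∀ M : X.Modules, IsZero M → P M)
    (ext : ∀ S : ShortComplex X.Modules, S.ShortExact → Coh.IsCoh S.X₁ → Coh.IsCoh S.X₂ →
      Coh.IsCoh S.X₃ → P S.X₁ → P S.X₃ → P S.X₂)
    (M : X.Modules) (hM : Coh.IsCoh M)
    (h : ∀ (Z : Scheme.{u}) (i : Z ⟶ X), IsClosedImmersion i → IsIntegral Z →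
      Set.range i ⊆ CohB1.support M →
      ∀ (I : Z.Modules) (ι : I ⟶ Coh.structureModule Z), Mono ι → Coh.IsQCoh I →
        P ((Coh.push i).obj I)) : P M := by
  obtain ⟨M', hM', ⟨e⟩⟩ := filt_of_isCoh hM
  refine iso M' M ⟨e⟩ ?_
  rw [← support_eq_of_iso e] at h
  clear e hM
  induction hM' with
  | @zero N hz hN => exact zero N hz
  | @step N N' hN ψ hψ hN' Z i hi hZ I ι hι hI hI₀ he ih =>
    obtain ⟨e⟩ := he
    have hS := ses ψ
    have hcok : Coh.IsCoh (cokernel ψ) := isCoh_cokernel ψ hN.isCoh.1 hN'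
    have hsu := support_of_shortExact hS hN.isCoh.1 hN'.1 hcok.1
    obtain ⟨hg, -, -⟩ := CohFinite.ideal_generic i I ι hI hI₀
    refine ext _ hS hN.isCoh hN' hcok (ih fun Z' i' a b hr => h Z' i' a b
      (hr.trans (Set.subset_union_left.trans_eq hsu.symm))) (iso _ _ ⟨e.symm⟩ ?_)
    refine h Z i hi hZ (range_subset_of_generic i (isClosed_support N' hN'.2) ?_) I ι hι hI
    refine hsu.ge (Or.inr ?_)
    rw [support_eq_of_iso e]
    exact hg

/-- A module with simple stalk at the generic point gives the structure sheaf. -/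
theorem Two.structure_of_simple {P : X.Modules → Prop} {T : Set X} (hP : Two P T) (hT : IsClosed T)
    {ξ : X} (hξ : closure {ξ} = T)
    (small : ∀ M : X.Modules, Coh.IsCoh M → CohB1.support M ⊆ T → ξ ∉ CohB1.support M → P M)
    {Z₀ : Scheme.{u}} (i₀ : Z₀ ⟶ X) [IsClosedImmersion i₀] [IsIntegral Z₀]
    (h₀ : i₀ (genericPoint Z₀) = ξ)
    (G : X.Modules) (hG : Coh.IsCoh G) (hs : CohB1.support G ⊆ T)
    (hsimple : IsSimpleModule (X.presheaf.stalk ξ) (G.presheaf.stalk ξ)) (hPG : P G) :
    P ((Coh.push i₀).obj (Coh.structureModule Z₀)) := by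
  obtain ⟨M', hM', ⟨e⟩⟩ := filt_of_isCoh hG
  have hsimple' : IsSimpleModule (X.presheaf.stalk ξ) ((DerSch.stalkFunctor X ξ).obj M') :=
    haveI : IsSimpleModule (X.presheaf.stalk ξ) ((DerSch.stalkFunctor X ξ).obj G) := hsimple
    IsSimpleModule.congr ((DerSch.stalkFunctor X ξ).mapIso e).toLinearEquiv
  rw [← support_eq_of_iso e] at hs
  have hPM : P M' := hP.iso _ _ ⟨e.symm⟩ hPG
  clear e hG hsimple hPG
  induction hM' with
  | @zero N h hN =>
    haveI := ModuleCat.subsingleton_of_isZero ((DerSch.stalkFunctor X ξ).map_isZero h)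
    haveI := IsSimpleModule.nontrivial (X.presheaf.stalk ξ) ((DerSch.stalkFunctor X ξ).obj N)
    exact (false_of_nontrivial_of_subsingleton ((DerSch.stalkFunctor X ξ).obj N)).elim
  | @step N N' hN ψ hψ hN' Z i hi hZ I ι hι hI hI₀ he ih =>
    obtain ⟨e⟩ := he
    have hS := ses ψ
    have hcok : Coh.IsCoh (cokernel ψ) := isCoh_cokernel ψ hN.isCoh.1 hN'
    have hsu := support_of_shortExact hS hN.isCoh.1 hN'.1 hcok.1
    have hs₁ : CohB1.support N ⊆ T := (Set.subset_union_left.trans_eq hsu.symm).trans hs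
    have hs₃ : CohB1.support ((Coh.push i).obj I) ⊆ T := by
      rw [← support_eq_of_iso e]
      exact (Set.subset_union_right.trans_eq hsu.symm).trans hs
    have hSF := hS.map_of_exact (DerSch.stalkFunctor X ξ)
    let φ := ((DerSch.stalkFunctor X ξ).map ψ).hom
    let π := ((DerSch.stalkFunctor X ξ).map (cokernel.π ψ)).hom
    have hφ : Function.Injective φ := (ModuleCat.mono_iff_injective _).1 hSF.mono_f
    have hπ : Function.Surjective π := (ModuleCat.epi_iff_surjective _).1 hSF.epi_g
    have hex : Function.Exact φ π := (ShortComplex.ShortExact.moduleCat_exact_iff_function_exact _).1 hSF.exact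
    obtain ⟨hg, -, -⟩ := CohFinite.ideal_generic i I ι hI hI₀
    by_cases hξi : i (genericPoint Z) = ξ
    · have hcn : ¬ Subsingleton ((cokernel ψ).presheaf.stalk ξ) := by
        change ξ ∈ CohB1.support (cokernel ψ)
        rw [support_eq_of_iso e, ← hξi]
        exact hg
      have hNξ : ξ ∉ CohB1.support N := by
        rw [CohB1.support, Set.mem_ofPred_eq, not_not]
        haveI : IsSimpleModule (X.presheaf.stalk ξ) ((DerSch.stalkFunctor X ξ).obj N') := hsimple'
        rcases eq_bot_or_eq_top (LinearMap.range φ) with hb | ht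
        · exact subsingleton_of_forall_eq 0 fun z => hφ ((LinearMap.mem_range_self φ z |> fun h =>
            (Submodule.mem_bot _).1 (hb ▸ h)).trans (map_zero φ).symm)
        · refine (hcn (subsingleton_of_forall_eq (0 : (DerSch.stalkFunctor X ξ).obj (cokernel ψ))
            fun z => ?_)).elim
          obtain ⟨w, rfl⟩ := hπ z
          exact (hex w).2 (by rw [← LinearMap.coe_range, ht]; trivial)
      have hPC : P (cokernel ψ) := (hP.two _ hS hN.isCoh hN' hcok hs).1 (small N hN.isCoh hs₁ hNξ) hPM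
      have hr : Set.range i₀ = Set.range i := by
        rw [range_eq_closure i₀, range_eq_closure i, h₀, hξi]
      refine hP.iso _ _ (push_structure_iso i i₀ hr.symm) ?_
      rw [← hP.ideal_iff hT i hξi (hξ ▸ subset_closure (Set.mem_singleton _)) small ι hI hI₀]
      exact hP.iso _ _ ⟨e⟩ hPC
    · have hCξ : ξ ∉ CohB1.support ((Coh.push i).obj I) := fun hin => hξi
        (((specializes_iff_mem_closure.2 (support_push_subset i ι hI hI₀ hin)).antisymm
          (specializes_iff_mem_closure.2 (hξ ▸ hs₃ hg))).eq)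
      have hPC : P (cokernel ψ) := hP.iso _ _ ⟨e.symm⟩ (small _ (isCoh_push i ι hI).1 hs₃ hCξ)
      refine ih hs₁ ?_ ((hP.two _ hS hN.isCoh hN' hcok hs).2.2 hPM hPC)
      rw [← support_eq_of_iso e] at hCξ
      haveI hsub : Subsingleton ((DerSch.stalkFunctor X ξ).obj (cokernel ψ)) := not_not.1 hCξ
      have hsurj : Function.Surjective φ := fun w => (hex w).1 (Subsingleton.elim _ _)
      haveI : IsSimpleModule (X.presheaf.stalk ξ) ((DerSch.stalkFunctor X ξ).obj N') := hsimple'
      exact IsSimpleModule.congr (LinearEquiv.ofBijective φ ⟨hφ, hsurj⟩)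

/-- Devissage in one irreducible closed set from a module with simple generic stalk. -/
theorem Two.of_simple {P : X.Modules → Prop} {T : Set X} (hP : Two P T) (hT : IsClosed T)
    {ξ : X} (hξ : closure {ξ} = T)
    (small : ∀ M : X.Modules, Coh.IsCoh M → CohB1.support M ⊆ T → ξ ∉ CohB1.support M → P M)
    (G : X.Modules) (hG : Coh.IsCoh G) (hs : CohB1.support G ⊆ T)
    (hsimple : IsSimpleModule (X.presheaf.stalk ξ) (G.presheaf.stalk ξ)) (hPG : P G)
    (M : X.Modules) (hM : Coh.IsCoh M) (hMs : CohB1.support M ⊆ T) : P M := by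
  obtain ⟨Z₀, i₀, hi₀, hZ₀, -, h₀⟩ := exists_integral_closed ξ
  exact hP.of_structure hT hξ small i₀ (h₀ hZ₀)
    (hP.structure_of_simple hT hξ small i₀ (h₀ hZ₀) G hG hs hsimple hPG) M hM hMs

/-- Noetherian induction. -/
theorem two_induction {P : X.Modules → Prop} {X' : Set X} (hX' : IsClosed X') (hP : Two P X')
    (step : ∀ ξ ∈ X',
      (∀ M : X.Modules, Coh.IsCoh M → CohB1.support M ⊆ closure {ξ} → ξ ∉ CohB1.support M → P M) →
      ∀ M : X.Modules, Coh.IsCoh M → CohB1.support M ⊆ closure {ξ} → P M)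
    (M : X.Modules) (hM : Coh.IsCoh M) (hMs : CohB1.support M ⊆ X') : P M := by
  suffices h : ∀ T : Closeds X, (T : Set X) ⊆ X' → ∀ M : X.Modules, Coh.IsCoh M →
      CohB1.support M ⊆ T → P M from h ⟨X', hX'⟩ subset_rfl M hM hMs
  intro T
  induction T using WellFoundedLT.induction with
  | ind T ih =>
    intro hTX M hM hMs
    have hbelow : ∀ M : X.Modules, Coh.IsCoh M → CohB1.support M ⊂ (T : Set X) → P M :=
      fun M hM hlt => ih ⟨CohB1.support M, isClosed_support M hM.2⟩
        (show _ ⊂ (T : Set X) from hlt) (hlt.subset.trans hTX) M hM subset_rfl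
    by_cases hirr : ∃ ξ, closure {ξ} = (T : Set X)
    · obtain ⟨ξ, hξ⟩ := hirr
      rw [← hξ] at hbelow hMs hTX
      exact step ξ (hTX (subset_closure (Set.mem_singleton _))) (fun N hN hs hn =>
        hbelow N hN (hs.ssubset_of_ne fun he => hn (he ▸ subset_closure (Set.mem_singleton _))))
        M hM hMs
    · obtain ⟨M', hM', ⟨e⟩⟩ := filt_of_isCoh hM
      refine hP.iso M' M ⟨e⟩ ?_
      rw [← support_eq_of_iso e] at hMs
      clear e hM
      induction hM' with
      | @zero N h hN => exact hP.zero N h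
      | @step N N' hN ψ hψ hN' Z i hi hZ I ι hι hI hI₀ he ihN =>
        obtain ⟨e⟩ := he
        have hS := ses ψ
        have hcok : Coh.IsCoh (cokernel ψ) := isCoh_cokernel ψ hN.isCoh.1 hN'
        have hsu := support_of_shortExact hS hN.isCoh.1 hN'.1 hcok.1
        refine (hP.two _ hS hN.isCoh hN' hcok (hMs.trans hTX)).2.1
          (ihN ((Set.subset_union_left.trans_eq hsu.symm).trans hMs)) (hP.iso _ _ ⟨e.symm⟩ ?_)
        obtain ⟨hg, -, -⟩ := CohFinite.ideal_generic i I ι hI hI₀
        have hcl : closure {i (genericPoint Z)} ⊆ (T : Set X) := by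
          refine closure_minimal (Set.singleton_subset_iff.2 (hMs (hsu.ge (Or.inr ?_)))) T.isClosed
          rw [support_eq_of_iso e]
          exact hg
        exact hbelow _ (isCoh_push i ι hI).1 (lt_of_le_of_lt (support_push_subset i ι hI hI₀)
          (hcl.ssubset_of_ne fun he => hirr ⟨_, he⟩))

end Groth.Agent.Devissage

namespace Groth.Agent.Devissage

variable {X : Scheme.{u}} [AlgebraicGeometry.IsNoetherian X]

/-- The zero module. -/
lemma zero_of_mem {P : X.Modules → Prop} {T : Set X}
    (iso : ∀ M N : X.Modules, Nonempty (M ≅ N) → P M → P N)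
    (two : ∀ S : ShortComplex X.Modules, S.ShortExact → Coh.IsCoh S.X₁ → Coh.IsCoh S.X₂ →
      Coh.IsCoh S.X₃ → CohB1.support S.X₂ ⊆ T →
        (P S.X₁ → P S.X₂ → P S.X₃) ∧ (P S.X₁ → P S.X₃ → P S.X₂) ∧ (P S.X₂ → P S.X₃ → P S.X₁))
    {G : X.Modules} (hG : Coh.IsCoh G) (hs : CohB1.support G ⊆ T) (hPG : P G)
    (M : X.Modules) (hM : IsZero M) : P M := by
  haveI : Mono (0 : M ⟶ G) := ⟨fun a b _ => hM.eq_of_tgt a b⟩
  have hMq := RPushQCoh.isQuasicoherent_of_isZero hM
  exact (two _ (ses (0 : M ⟶ G)) (isCoh_of_mono (0 : M ⟶ G) hG hMq) hG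
    (isCoh_cokernel _ hMq hG) hs).2.2 hPG (iso _ _ ⟨cokernelZeroIsoTarget.symm⟩ hPG)

/-- Simple modules from residue fields. -/
lemma isSimple_of_residue {R : Type u} [CommRing R] [IsLocalRing R] {N : Type u} [AddCommGroup N]
    [Module R N] (e : N ≃ₗ[R] IsLocalRing.ResidueField R) : IsSimpleModule R N := by
  have h : IsSimpleModule R (R ⧸ IsLocalRing.maximalIdeal R) :=
    isSimpleModule_iff_isCoatom.2 (IsLocalRing.maximalIdeal.isMaximal R).out
  haveI : IsSimpleModule R (IsLocalRing.ResidueField R) := h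
  exact IsSimpleModule.congr e

end Groth.Agent.Devissage
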