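import Groth.Agent.Devissage.General
import Groth.Agent.AssPts.Scheme
import Groth.Agent.QCohBase.Noetherian
import Groth.Agent.FpqcDescent.ReducedSub
import Groth.Agent.QCohBase.Push

/-!
# Every nonzero quasi-coherent module contains the direct image of an ideal of an integral
closed subscheme
-/

noncomputable section

universe u

open CategoryTheory Limits AlgebraicGeometry Opposite TopologicalSpace Groth.Agent.QCohBase

namespace Groth.Agent.Devissage

variable {X : Scheme.{u}} [IsNoetherian X]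

lemma ass_nonempty {M : X.Modules} [M.IsQuasicoherent] (hM : ¬ IsZero M) :
    (AssSch.Ass M).Nonempty := by
  by_contra hne
  obtain ⟨ι, hι, U, hU, hcov⟩ := exists_finite_affine_cover' X
  refine hM (isZero_of_sections U hU hcov fun j => ?_)
  refine ⟨fun a b => sub_eq_zero.1 (AssPts.eq_zero_of_forall_germ M (hU j) _ fun y hy hy' => ?_)⟩
  exact absurd ⟨y, hy'⟩ hne

/-- An associated point none of whose proper specializations is associated. -/
lemma exists_special_ass {M : X.Modules} [M.IsQuasicoherent] (hM : ¬ IsZero M) :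
    ∃ z ∈ AssSch.Ass M, ∀ y ∈ AssSch.Ass M, z ⤳ y → y = z := by
  obtain ⟨y₀, hy₀⟩ := ass_nonempty hM
  let c : X → Closeds X := fun y => ⟨closure {y}, isClosed_closure⟩
  obtain ⟨C, ⟨z, hz, rfl⟩, hmin⟩ :=
    (wellFounded_lt : WellFounded (α := Closeds X) (· < ·)).has_min (c '' AssSch.Ass M)
      ⟨c y₀, y₀, hy₀, rfl⟩
  refine ⟨z, hz, fun y hy hzy => ?_⟩
  have hle : c y ≤ c z := specializes_iff_closure_subset.1 hzy
  have heq : c y = c z := hle.eq_of_not_lt (hmin _ ⟨y, hy, rfl⟩)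
  exact ((specializes_iff_closure_subset.2 (congrArg (fun D : Closeds X => (D : Set X)) heq).ge).antisymm hzy).eq

/-- A morphism killing exactly what an epimorphism kills factors through it as a monomorphism. -/
lemma exists_mono_factor {A P B : X.Modules} (φ : A ⟶ P) [Epi φ] (σ : A ⟶ B)
    (hφ : ∀ (W : X.Opens) (r : Γ(A, W)), φ.app W r = 0 ↔ σ.app W r = 0) :
    ∃ τ : P ⟶ B, Mono τ ∧ φ ≫ τ = σ := by
  have hφσ : kernel.ι φ ≫ σ = 0 := by
    refine hom_ext_affine _ _ fun W _ t => ?_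
    refine (show σ.app W ((kernel.ι φ).app W t) = 0 from ?_).trans rfl
    refine (hφ W _).1 ?_
    show (kernel.ι φ ≫ φ).app W t = 0
    rw [kernel.condition]
    rfl
  let τ := Abelian.epiDesc φ σ hφσ
  have hτfac : φ ≫ τ = σ := Abelian.comp_epiDesc φ σ hφσ
  have hσφ : kernel.ι σ ≫ φ = 0 := by
    refine hom_ext_affine _ _ fun W _ t => ?_
    refine (show φ.app W ((kernel.ι σ).app W t) = 0 from ?_).trans rfl
    refine (hφ W _).2 ?_
    show (kernel.ι σ ≫ σ).app W t = 0
    rw [kernel.condition]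
    rfl
  haveI hτ : Mono τ := by
    refine Preadditive.mono_of_cancel_zero _ fun {P} g hg => ?_
    obtain ⟨P', π, hπ, a, ha⟩ := surjective_up_to_refinements_of_epi φ g
    have haσ : a ≫ σ = 0 := by rw [← hτfac, ← Category.assoc, ← ha, Category.assoc, hg, comp_zero]
    have : a ≫ φ = 0 := by
      rw [← kernel.lift_ι σ a haσ, Category.assoc, hσφ, comp_zero]
    rw [this] at ha
    rw [← cancel_epi π, comp_zero]
    exact ha
  exact ⟨τ, hτ, hτfac⟩

lemma epi_toSubscheme (I : X.IdealSheafData) : Epi (ClSub.toSubscheme I) := by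
  haveI : (modAb X).Faithful :=
    inferInstanceAs (SheafOfModules.toSheaf X.ringCatSheaf).Faithful
  haveI : Epi ((modAb X).map (ClSub.toSubscheme I)) :=
    isLocallySurjective_of_basis _ {V | IsAffineOpen V} X.isBasis_affineOpens
      fun V hV => I.subschemeι.app_surjective V hV
  exact (modAb X).epi_of_epi_map this

/-- Restriction maps of the direct image of a restriction. -/
lemma mres_push_restrict {M : X.Modules} {Y : Scheme.{u}} (j : Y ⟶ X) [IsOpenImmersion j]
    {V W : X.Opens} (h : W ≤ V) (hh : j ''ᵁ (j ⁻¹ᵁ W) ≤ j ''ᵁ (j ⁻¹ᵁ V))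
    (t : Γ((Scheme.Modules.pushforward j).obj (M.restrict j), V)) :
    (mres ((Scheme.Modules.pushforward j).obj (M.restrict j)) h t : Γ(M, j ''ᵁ (j ⁻¹ᵁ W))) =
      mres M hh (show Γ(M, j ''ᵁ (j ⁻¹ᵁ V)) from t) :=
  rfl

lemma eq_zero_of_mres_push_restrict {M : X.Modules} {Y : Scheme.{u}} (j : Y ⟶ X) [IsOpenImmersion j]
    {V W : X.Opens} (h : W ≤ V) (hle : j ''ᵁ (j ⁻¹ᵁ V) ≤ j ''ᵁ (j ⁻¹ᵁ W))
    (t : Γ((Scheme.Modules.pushforward j).obj (M.restrict j), V))
    (ht : mres ((Scheme.Modules.pushforward j).obj (M.restrict j)) h t = 0) : t = 0 := by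
  have hh : j ''ᵁ (j ⁻¹ᵁ W) ≤ j ''ᵁ (j ⁻¹ᵁ V) := j.image_mono fun y hy => h hy
  have h' : mres M hle (mres M hh (show Γ(M, j ''ᵁ (j ⁻¹ᵁ V)) from t)) = 0 :=
    (congrArg (mres M hle) ((mres_push_restrict j h hh t).symm.trans ht)).trans (map_zero _)
  exact ((mres_refl M _ _).symm.trans (mres_mres M hh hle _).symm).trans h'

section Single

variable {M : X.Modules} [M.IsQuasicoherent] {z : X} {U : X.Opens} (hU : IsAffineOpen U)
  (hzU : z ∈ U) (s : Γ(M, U))
  (hs : ∀ a, a ∈ (hU.primeIdealOf ⟨z, hzU⟩).asIdeal ↔ a • s = 0)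

include hs

lemma germ_ne_zero : M.presheaf.germ U z hzU s ≠ 0 := by
  intro h
  obtain ⟨g, hg, hgs⟩ := (AssPts.germ_eq_zero_iff M hU z hzU s).1 h
  exact hg ((hs g).2 hgs)

lemma smul_germ_eq_zero {a : X.presheaf.stalk z} (ha : a ∈ IsLocalRing.maximalIdeal _) :
    a • M.presheaf.germ U z hzU s = 0 := by
  obtain ⟨g, r, hg, hr⟩ := AssPts.exists_ringGerm_mul_eq hU z hzU a
  have hrp : r ∈ (hU.primeIdealOf ⟨z, hzU⟩).asIdeal :=
    (AssPts.mem_prime_iff hU z hzU r).2 (hr ▸ Ideal.mul_mem_right _ _ ha)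
  have h0 : M.presheaf.germ U z hzU (r • s) = 0 := by rw [(hs r).1 hrp, map_zero]
  rw [AssPts.germ_smul', ← hr, mul_comm, mul_smul] at h0
  exact ((AssPts.notMem_prime_iff hU z hzU g).1 hg).smul_eq_zero.1 h0

lemma germ_eq_zero_of_not_specializes {y : X} (hy : y ∈ U) (h : ¬ z ⤳ y) :
    M.presheaf.germ U y hy s = 0 := by
  rw [AssPts.specializes_iff hU y hy hzU, SetLike.not_le_iff_exists] at h
  obtain ⟨g, hg, hgy⟩ := h
  exact (AssPts.germ_eq_zero_iff M hU y hy s).2 ⟨g, hgy, (hs g).1 hg⟩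

/-- Gluing `s` and `0`. -/
lemma exists_glue (Zc : X.Opens) (hZc : ∀ {y : X}, y ∈ Zc ↔ ¬ z ⤳ y) :
    ∃ s' : Γ(M, U ⊔ Zc),
      mres M (le_sup_left : U ≤ U ⊔ Zc) s' = s ∧ mres M (le_sup_right : Zc ≤ U ⊔ Zc) s' = 0 := by
  let Vc : ULift.{u} Bool → X.Opens := fun b => if b.down then U else Zc
  have hVc : ∀ b, Vc b ≤ (U ⊔ Zc) := fun b => by
    rcases b with ⟨_ | _⟩
    · exact le_sup_right
    · exact le_sup_left
  have hcovU' : (U ⊔ Zc) ≤ ⨆ b, Vc b :=
    sup_le (le_iSup Vc ⟨true⟩) (le_iSup Vc ⟨false⟩)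
  have hsUZ : mres M (inf_le_left : U ⊓ Zc ≤ U) s = 0 := by
    choose A hA hxA hAW using fun y : (U ⊓ Zc : X.Opens) =>
      Opens.isBasis_iff_nbhd.1 X.isBasis_affineOpens y.2
    refine eq_of_iSup_le M A hAW
      (fun y hy => Opens.mem_iSup.2 ⟨⟨y, hy⟩, hxA ⟨y, hy⟩⟩) _ _ fun y => ?_
    rw [map_zero, mres_mres]
    refine AssPts.eq_zero_of_forall_germ M (hA y) _ fun w hw _ => ?_
    rw [AssPts.germ_mres]
    exact germ_eq_zero_of_not_specializes hU hzU s hs (hAW y hw).1
      (hZc.1 (hAW y hw).2)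
  let sf : ∀ b, Γ(M, Vc b) := fun b =>
    match b with
    | ⟨true⟩ => s
    | ⟨false⟩ => 0
  obtain ⟨s', hs', -⟩ := TopCat.Sheaf.existsUnique_gluing' ⟨M.presheaf, M.isSheaf⟩ Vc (U ⊔ Zc)
    (fun b => homOfLE (hVc b)) hcovU' sf (by
      rintro ⟨_ | _⟩ ⟨_ | _⟩
      · rfl
      · show mres M _ (0 : Γ(M, Zc)) = mres M _ s
        rw [map_zero, ← mres_mres M (inf_le_left : U ⊓ Zc ≤ U) (inf_comm Zc U).le, hsUZ, map_zero]
      · show mres M _ s = mres M _ (0 : Γ(M, Zc))
        rw [map_zero]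
        exact hsUZ
      · rfl)
  have hs'U : mres M (le_sup_left : U ≤ (U ⊔ Zc)) s' = s := hs' ⟨true⟩
  have hs'Z : mres M (le_sup_right : Zc ≤ (U ⊔ Zc)) s' = 0 := hs' ⟨false⟩
  exact ⟨s', hs'U, hs'Z⟩

/-- The main construction. -/
theorem exists_mono_of_special (hmax : ∀ y ∈ AssSch.Ass M, z ⤳ y → y = z) :
    ∃ (K : X.Modules) (m : K ⟶ M)
      (k : K ⟶ (Scheme.Modules.pushforward (Scheme.IdealSheafData.vanishingIdeal
        ⟨closure {z}, isClosed_closure⟩).subschemeι).obj (Coh.structureModule _)),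
      Mono m ∧ Mono k ∧ K.IsQuasicoherent ∧ ¬ IsZero K := by
  let Z : Closeds X := ⟨closure {z}, isClosed_closure⟩
  let I := Scheme.IdealSheafData.vanishingIdeal Z
  let Zc : X.Opens := ⟨(Z : Set X)ᶜ, Z.2.isOpen_compl⟩
  let U' : X.Opens := U ⊔ Zc
  have memZ : ∀ {y : X}, y ∈ Z ↔ z ⤳ y := fun {y} => specializes_iff_mem_closure.symm
  obtain ⟨s', hs'U, hs'Z⟩ := exists_glue hU hzU s hs Zc (fun {y} => not_congr memZ)
  let Vc : ULift.{u} Bool → X.Opens := fun b => if b.down then U else Zc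
  have hVc : ∀ b, Vc b ≤ U' := fun b => by
    rcases b with ⟨_ | _⟩
    · exact le_sup_right
    · exact le_sup_left
  have hcovU' : U' ≤ ⨆ b, Vc b :=
    sup_le (le_iSup Vc ⟨true⟩) (le_iSup Vc ⟨false⟩)
  let j := U'.ι
  haveI : QuasiCompact j := inferInstance
  haveI : QuasiSeparated j := inferInstance
  let B : X.Modules := (Scheme.Modules.pushforward j).obj (M.restrict j)
  haveI hBq : B.IsQuasicoherent := isQuasicoherent_pushforward _ j
  let η : M ⟶ B := (Scheme.Modules.restrictAdjunction j).unit.app M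
  have himg : ∀ W : X.Opens, j ''ᵁ (j ⁻¹ᵁ W) ≤ U' := by
    rintro W _ ⟨⟨y, hy⟩, -, rfl⟩
    exact hy
  have hηeq : ∀ (W : X.Opens) (t : Γ(M, W)),
      η.app W t = mres M (j.image_preimage_le W) t := fun W t => by
    show ((Scheme.Modules.restrictAdjunction j).unit.app M).app W t = _
    rw [Scheme.Modules.restrictAdjunction_unit_app_app]
    rfl
  have hη : ∀ W, Function.Injective (η.app W) := by
    intro W t t' htt
    rw [hηeq, hηeq] at htt
    choose A hA hxA hAW using fun y : W => Opens.isBasis_iff_nbhd.1 X.isBasis_affineOpens y.2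
    refine eq_of_iSup_le M A hAW (fun y hy => Opens.mem_iSup.2 ⟨⟨y, hy⟩, hxA ⟨y, hy⟩⟩) _ _ fun y =>
      sub_eq_zero.1 (AssPts.eq_zero_of_forall_germ M (hA y) _ fun w hw hw' => ?_)
    have hwU' : w ∈ U' := by
      by_cases hzw : z ⤳ w
      · exact Or.inl ((hmax w hw' hzw).symm ▸ hzU)
      · exact Or.inr fun h => hzw (memZ.1 h)
    have hwimg : w ∈ j ''ᵁ (j ⁻¹ᵁ W) := ⟨⟨w, hwU'⟩, hAW y hw, rfl⟩
    rw [map_sub, AssPts.germ_mres, AssPts.germ_mres,
      ← AssPts.germ_mres M w (j.image_preimage_le W) hwimg t,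
      ← AssPts.germ_mres M w (j.image_preimage_le W) hwimg t', htt, sub_self]
  haveI hmη : Mono η := mono_of_app_injective η hη
  let b : Γ(B, (⊤ : X.Opens)) := mres M (himg ⊤) s'
  let σ := SerreAff.mulSec B b
  have hb : ∀ (W : X.Opens) (hW : W ≤ U'),
      mres B (le_top : W ≤ ⊤) b = η.app W (mres M hW s') := by
    intro W hW
    refine (mres_push_restrict j _ (j.image_mono (fun _ _ => trivial : j ⁻¹ᵁ W ≤ j ⁻¹ᵁ (⊤ : X.Opens))) b).trans ?_
    refine (mres_mres M _ _ _).trans ?_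
    refine Eq.trans ?_ (hηeq W _).symm
    exact (mres_mres M _ _ _).symm
  have hσ : ∀ (W : X.Opens) (hW : W ≤ U') (r : Γ(X, W)),
      σ.app W r = η.app W (r • mres M hW s') := by
    intro W hW r
    rw [Scheme.Modules.Hom.app_smul, SerreAff.mulSec_app, hb W hW]
  have hBres : ∀ (W : X.Opens) (t : Γ(B, W)),
      mres B (inf_le_left : W ⊓ U' ≤ W) t = 0 → t = 0 := by
    intro W t ht
    exact eq_zero_of_mres_push_restrict j inf_le_left
      (j.image_mono fun y hy => ⟨hy, y.2⟩) t ht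
  -- sections killed by `σ` are those vanishing on `Z`
  have hker : ∀ (W : X.Opens) (r : Γ(X, W)),
      σ.app W r = 0 ↔ ∀ y ∈ Z, y ∉ X.basicOpen r := by
    intro W r
    constructor
    · intro h y hyZ hyr
      have hzr : z ∈ X.basicOpen r := (memZ.1 hyZ).mem_open (X.basicOpen r).2 hyr
      have hzW : z ∈ W := X.basicOpen_le _ hzr
      have h1 : σ.app (W ⊓ U) (ores inf_le_left r) = 0 := by
        have := app_nat σ (inf_le_left : W ⊓ U ≤ W) (show Γ(Coh.structureModule X, W) from r)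
        rw [h, map_zero] at this
        exact this.symm
      rw [hσ _ (inf_le_right.trans le_sup_left)] at h1
      have h2 := hη _ (h1.trans (map_zero _).symm)
      rw [← mres_mres M (le_sup_left : U ≤ U') inf_le_right s', hs'U] at h2
      have h3 := congrArg (M.presheaf.germ (W ⊓ U) z ⟨hzW, hzU⟩) h2
      rw [AssPts.germ_smul', AssPts.germ_mres, map_zero] at h3
      have hu : IsUnit (X.presheaf.germ (W ⊓ U) z ⟨hzW, hzU⟩ (ores inf_le_left r)) := by
        rw [TopCat.Presheaf.germ_res_apply]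
        exact (X.mem_basicOpen r z hzW).1 hzr
      exact germ_ne_zero hU hzU s hs (hu.smul_eq_zero.1 h3)
    · intro h
      refine hBres W _ ?_
      rw [app_nat]
      show σ.app (W ⊓ U') (ores inf_le_left r) = 0
      rw [hσ _ inf_le_right]
      suffices h0 : ores (inf_le_left : W ⊓ U' ≤ W) r • mres M (inf_le_right : W ⊓ U' ≤ U') s' = 0 by
        rw [h0, map_zero]
      refine eq_of_iSup_le M (fun b => W ⊓ Vc b) (fun b => inf_le_inf_left W (hVc b)) ?_ _ _
        fun b => ?_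
      · rintro y ⟨hyW, hyU'⟩
        obtain ⟨b, hb⟩ := Opens.mem_iSup.1 (hcovU' hyU')
        exact Opens.mem_iSup.2 ⟨b, hyW, hb⟩
      rw [map_zero, mres_smul, mres_mres, ores_ores]
      rcases b with ⟨_ | _⟩
      · show _ • mres M _ s' = 0
        rw [← mres_mres M (le_sup_right : Zc ≤ U') (inf_le_right : W ⊓ Zc ≤ Zc) s', hs'Z, map_zero,
          smul_zero]
      show ores (inf_le_left : W ⊓ U ≤ W) r • mres M (inf_le_right.trans le_sup_left : W ⊓ U ≤ U') s' = 0
      rw [← mres_mres M (le_sup_left : U ≤ U') (inf_le_right : W ⊓ U ≤ U) s', hs'U]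
      choose A hA hxA hAW using fun y : (W ⊓ U : X.Opens) =>
        Opens.isBasis_iff_nbhd.1 X.isBasis_affineOpens y.2
      refine eq_of_iSup_le M A hAW
        (fun y hy => Opens.mem_iSup.2 ⟨⟨y, hy⟩, hxA ⟨y, hy⟩⟩) _ _ fun y => ?_
      rw [map_zero, mres_smul, mres_mres, ores_ores]
      refine AssPts.eq_zero_of_forall_germ M (hA y) _ fun w hw hw' => ?_
      rw [AssPts.germ_smul', AssPts.germ_mres]
      by_cases hzw : z ⤳ w
      · obtain rfl := hmax w hw' hzw
        refine smul_germ_eq_zero hU hzU s hs ?_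
        rw [TopCat.Presheaf.germ_res_apply, IsLocalRing.mem_maximalIdeal, mem_nonunits_iff]
        exact fun hu => h _ (memZ.2 specializes_rfl) ((X.mem_basicOpen r _ (hAW y hw).1).2 hu)
      · rw [germ_eq_zero_of_not_specializes hU hzU s hs (hAW y hw).2 hzw, smul_zero]
  -- factor `σ` through `i_* O_Z`
  let φ := ClSub.toSubscheme I
  have hφ : ∀ (W : X.Opens) (r : Γ(X, W)), φ.app W r = 0 ↔ σ.app W r = 0 := fun W r => by
    rw [hker]
    exact SerreAff.app_eq_zero_iff Z W r
  haveI := epi_toSubscheme I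
  obtain ⟨τ, hτ, hτfac⟩ := exists_mono_factor φ σ hφ
  haveI hOI := AssPts.isQuasicoherent_structureModule I.subscheme
  haveI hcq : (cokernel τ).IsQuasicoherent :=
    isQuasicoherent_cokernel τ (isQuasicoherent_pushforward _ I.subschemeι) hBq
  let m : kernel (η ≫ cokernel.π τ) ⟶ M := kernel.ι _
  have hcond : (m ≫ η) ≫ cokernel.π τ = 0 := by rw [Category.assoc, kernel.condition]
  let k := Abelian.monoLift τ (m ≫ η) hcond
  have hk : k ≫ τ = m ≫ η := Abelian.monoLift_comp τ (m ≫ η) hcond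
  haveI : Mono m := inferInstanceAs (Mono (kernel.ι _))
  haveI : Mono (k ≫ τ) := hk.symm ▸ mono_comp m η
  refine ⟨_, m, k, inferInstance, mono_of_mono k τ,
    isQuasicoherent_kernel _ ‹_› hcq, fun hz => ?_⟩
  let T : ShortComplex X.Modules := ShortComplex.mk m (η ≫ cokernel.π τ) (kernel.condition _)
  haveI : Mono T.f := inferInstanceAs (Mono m)
  have h1 : T.g.app U s = 0 := by
    have hσ1 := hσ U le_sup_left (1 : Γ(X, U))
    rw [one_smul, hs'U, ← hτfac] at hσ1
    show (cokernel.π τ).app U (η.app U s) = 0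
    rw [← hσ1]
    show (cokernel.π τ).app U (τ.app U (φ.app U _)) = 0
    rw [← comp_app_apply τ (cokernel.π τ), cokernel.condition]
    rfl
  obtain ⟨t, ht⟩ := sections_exact_left (T := T)
    (ShortComplex.exact_of_f_is_kernel _ (kernelIsKernel _)) s h1
  apply germ_ne_zero hU hzU s hs
  rw [← ht, show T.f = 0 from hz.eq_of_src _ _]
  exact map_zero _

end Single

/-- Every nonzero quasi-coherent module on a noetherian scheme contains the direct image of a
nonzero quasi-coherent ideal of an integral closed subscheme. -/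
theorem exists_mono_push_ideal {M : X.Modules} [M.IsQuasicoherent] (hM : ¬ IsZero M) :
    ∃ (Z : Scheme.{u}) (i : Z ⟶ X), IsClosedImmersion i ∧ IsIntegral Z ∧
      ∃ (I : Z.Modules) (ι : I ⟶ Coh.structureModule Z), Mono ι ∧ I.IsQuasicoherent ∧ ¬ IsZero I ∧
        ((Scheme.Modules.pushforward i).obj I).IsQuasicoherent ∧
        ∃ g : (Scheme.Modules.pushforward i).obj I ⟶ M, Mono g := by
  obtain ⟨z, hz, hmax⟩ := exists_special_ass hM
  obtain ⟨U, hU, hzU, -⟩ := Opens.isBasis_iff_nbhd.1 X.isBasis_affineOpens (Opens.mem_top z)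
  haveI := isNoetherianRing_sections (X := X) hU
  obtain ⟨-, s, hs⟩ := WeakAss.mem_ass_iff.1 ((AssPts.mem_ass_iff M hU z hzU).1 hz)
  obtain ⟨K, m, k, hm, hk, hKq, hK⟩ := exists_mono_of_special hU hzU s hs hmax
  let Z : Closeds X := ⟨closure {z}, isClosed_closure⟩
  let I := Scheme.IdealSheafData.vanishingIdeal Z
  obtain ⟨J, ι, hι, hJq, ⟨e⟩⟩ := exists_ideal_of_mono I.subschemeι hKq k
  have hr : Set.range I.subschemeι = (Z : Set X) := by
    rw [Scheme.IdealSheafData.range_subschemeι, Scheme.IdealSheafData.coe_support_vanishingIdeal]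
  haveI : IrreducibleSpace I.subscheme := by
    let hh := I.subschemeι.isClosedEmbedding.isEmbedding.toHomeomorph
    haveI : IrreducibleSpace (Set.range I.subschemeι) :=
      Subtype.irreducibleSpace (hr ▸ isIrreducible_singleton.closure)
    exact hh.symm.surjective.irreducibleSpace hh.symm.continuous
  haveI : IsIntegral I.subscheme := isIntegral_of_irreducibleSpace_of_isReduced _
  refine ⟨I.subscheme, I.subschemeι, inferInstance, inferInstance, J, ι, hι, hJq, fun h => ?_,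
    isQuasicoherent_pushforward _ _, e.hom ≫ m, mono_comp _ _⟩
  exact hK ((Functor.map_isZero (Scheme.Modules.pushforward I.subschemeι) h).of_iso e.symm)

end Groth.Agent.Devissage
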