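import Groth.Agent.Devissage.SerreClass
import Mathlib.RingTheory.Localization.BaseChange

/-!
# Devissage for classes closed under direct summands
-/

noncomputable section

universe u

open CategoryTheory Limits AlgebraicGeometry Opposite TopologicalSpace Groth.Agent.QCohBase
open scoped TensorProduct

namespace Groth.Agent.Devissage

/-- Finite modules over a domain are generically free. -/
theorem exists_generic_basis {D M : Type u} [CommRing D] [IsDomain D] [AddCommGroup M] [Module D M]
    [Module.Finite D M] :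
    ∃ (r : ℕ) (l : Fin r → (M →ₗ[D] D)) (s : Fin r → M) (d : D), d ≠ 0 ∧
      (∀ k j, l k (s j) = if k = j then d else 0) ∧
      (∀ m, (∀ k, l k m = 0) → ∃ a : D, a ≠ 0 ∧ a • m = 0) := by
  classical
  let K := FractionRing D
  let V := K ⊗[D] M
  let mk1 : M →ₗ[D] V := TensorProduct.mk D K M 1
  have hloc : IsLocalizedModule (nonZeroDivisors D) mk1 := inferInstance
  have hspan : Submodule.span K (Set.range mk1) = ⊤ := by
    refine top_unique fun v _ => ?_
    induction v using TensorProduct.induction_on with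
    | zero => exact zero_mem _
    | tmul a m =>
      rw [show a ⊗ₜ[D] m = a • ((1 : K) ⊗ₜ[D] m) by rw [TensorProduct.smul_tmul', smul_eq_mul, mul_one]]
      exact Submodule.smul_mem _ _ (Submodule.subset_span ⟨m, rfl⟩)
    | add x y hx hy => exact add_mem (hx trivial) (hy trivial)
  haveI : Module.Finite K V := inferInstance
  obtain ⟨b, hb, hb'⟩ : ∃ (b : Module.Basis (Fin (Module.finrank K V)) K V) (s : Fin (Module.finrank K V) → M),
      ∀ k, b k = mk1 (s k) := by
    let B := Module.Basis.ofSpan hspan.ge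
    let e := (B.indexEquiv (Module.finBasis K V))
    refine ⟨B.reindex e, fun k => ((Module.Basis.ofSpan_subset hspan.ge)
      (Set.mem_range_self (e.symm k))).choose, fun k => ?_⟩
    rw [Module.Basis.reindex_apply]
    exact ((Module.Basis.ofSpan_subset hspan.ge) (Set.mem_range_self (e.symm k))).choose_spec.symm
  obtain ⟨t, ht⟩ := (Module.Finite.fg_top : (⊤ : Submodule D M).FG)
  let h : Fin (Module.finrank K V) → (M →ₗ[D] K) := fun k =>
    ((b.coord k).restrictScalars D).comp mk1
  obtain ⟨d, hd⟩ := IsLocalization.exist_integer_multiples (nonZeroDivisors D)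
    (Finset.univ ×ˢ t : Finset (Fin (Module.finrank K V) × M)) fun p => h p.1 p.2
  let R := LinearMap.range (Algebra.linearMap D K)
  have hmem : ∀ k x, (d : D) • h k x ∈ R := by
    intro k x
    have hle : (⊤ : Submodule D M) ≤ Submodule.comap ((d : D) • h k) R := by
      rw [← ht, Submodule.span_le]
      intro m hm
      obtain ⟨a, ha⟩ := hd (k, m) (Finset.mem_product.2 ⟨Finset.mem_univ _, hm⟩)
      exact ⟨a, ha⟩
    exact hle (show x ∈ (⊤ : Submodule D M) from trivial)
  let e : D ≃ₗ[D] R := LinearEquiv.ofInjective (Algebra.linearMap D K) (IsFractionRing.injective D K)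
  let l : Fin (Module.finrank K V) → (M →ₗ[D] D) := fun k =>
    e.symm.toLinearMap.comp (((d : D) • h k).codRestrict R (hmem k))
  have hl : ∀ k x, algebraMap D K (l k x) = (d : D) • h k x := fun k x =>
    congrArg Subtype.val (e.apply_symm_apply ⟨_, hmem k x⟩)
  refine ⟨_, l, hb, d, nonZeroDivisors.ne_zero d.2, fun k j => ?_, fun m hm => ?_⟩
  · apply IsFractionRing.injective D K
    rw [hl]
    show (d : D) • b.coord k (mk1 (hb j)) = _
    rw [← hb', Module.Basis.coord_apply, Module.Basis.repr_self, Finsupp.single_apply]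
    by_cases hkj : k = j
    · subst hkj
      simp [Algebra.smul_def]
    · simp [hkj, Ne.symm hkj]
  · have h0 : mk1 m = 0 := by
      refine b.forall_coord_eq_zero_iff.1 fun k => ?_
      have h1 := hl k m
      rw [hm k, map_zero, eq_comm, Algebra.smul_def, mul_eq_zero] at h1
      exact h1.resolve_left (fun hz => nonZeroDivisors.ne_zero d.2
        ((IsFractionRing.injective D K) (hz.trans (map_zero _).symm)))
    obtain ⟨a, ha⟩ := (IsLocalizedModule.eq_zero_iff (nonZeroDivisors D) mk1).1 h0
    exact ⟨a, nonZeroDivisors.ne_zero a.2, ha⟩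

/-- Finite modules killed by a prime, over the ring. -/
theorem exists_generic_basis_killed {A D M : Type u} [CommRing A] [CommRing D] [Algebra A D]
    [AddCommGroup M] [Module A M] [Module.Finite A M]
    (hs : Function.Surjective (algebraMap A D)) (p : PrimeSpectrum A)
    (hker : RingHom.ker (algebraMap A D) = p.asIdeal)
    (hkill : ∀ a ∈ p.asIdeal, ∀ m : M, a • m = 0) :
    ∃ (r : ℕ) (l : Fin r → (M →ₗ[A] D)) (s : Fin r → M) (d : D), d ≠ 0 ∧
      (∀ k j, l k (s j) = if k = j then d else 0) ∧
      (∀ m, (∀ k, l k m = 0) → ∃ a : A, a ∉ p.asIdeal ∧ a • m = 0) := by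
  have hM : Module.IsTorsionBySet A M p.asIdeal := fun m a => hkill a.1 a.2 m
  letI := hM.module
  haveI : IsScalarTower A (A ⧸ p.asIdeal) M := hM.isScalarTower
  haveI : Module.Finite (A ⧸ p.asIdeal) M := Module.Finite.of_restrictScalars_finite A _ M
  obtain ⟨r, l, s, d, hd, hls, hinj⟩ := exists_generic_basis (D := A ⧸ p.asIdeal) (M := M)
  let e : (A ⧸ p.asIdeal) ≃ₗ[A] D :=
    Submodule.quotEquivOfEq p.asIdeal (LinearMap.ker (Algebra.linearMap A D))
      (Submodule.ext fun a => (SetLike.ext_iff.1 hker a).symm) ≪≫ₗ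
    (Algebra.linearMap A D).quotKerEquivOfSurjective hs
  refine ⟨r, fun k => e.toLinearMap.comp ((l k).restrictScalars A), s, e d,
    fun h => hd (e.injective (h.trans (map_zero e).symm)), fun k j => ?_, fun m hm => ?_⟩
  · show e (l k (s j)) = _
    rw [hls k j]
    split_ifs
    · rfl
    · exact map_zero e
  · obtain ⟨a, ha, ham⟩ := hinj m fun k => e.injective ((hm k).trans (map_zero e).symm)
    obtain ⟨a, rfl⟩ := Ideal.Quotient.mk_surjective a
    exact ⟨a, fun h => ha (Ideal.Quotient.eq_zero_iff_mem.2 h), ham⟩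

variable {X : Scheme.{u}} [AlgebraicGeometry.IsNoetherian X]

instance : HasFiniteBiproducts X.Modules := HasFiniteBiproducts.of_hasFiniteProducts

/-- Finite biproducts stay in classes containing zero and closed under extensions. -/
lemma biproduct_mem {Q : X.Modules → Prop} (zero : ∀ M : X.Modules, IsZero M → Q M)
    (ext : ∀ S : ShortComplex X.Modules, S.ShortExact → Q S.X₁ → Q S.X₃ → Q S.X₂)
    {B : X.Modules} (hB : Q B) : ∀ r : ℕ, Q (⨁ fun _ : Fin r => B) := by
  intro r
  induction r with
  | zero =>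
    refine zero _ ?_
    rw [IsZero.iff_id_eq_zero]
    exact biproduct.hom_ext _ _ fun j => Fin.elim0 j
  | succ r ih =>
    let T : ShortComplex X.Modules :=
      ShortComplex.mk (biproduct.ι (fun _ : Fin (r + 1) => B) 0)
        (biproduct.lift (fun k : Fin r => biproduct.π (fun _ : Fin (r + 1) => B) k.succ)) (by
          refine biproduct.hom_ext _ _ fun k => ?_
          simp [biproduct.ι_π_ne _ (Fin.succ_ne_zero k).symm])
    have hT : T.ShortExact :=
      ShortComplex.Splitting.shortExact
        { r := biproduct.π _ 0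
          s := biproduct.desc (fun k : Fin r => biproduct.ι (fun _ : Fin (r + 1) => B) k.succ)
          f_r := by simp [T]
          s_g := by
            refine biproduct.hom_ext' _ _ fun k => biproduct.hom_ext _ _ fun j => ?_
            by_cases hjk : k = j
            · subst hjk; simp [T]
            · simp [T, biproduct.ι_π_ne _ hjk,
                biproduct.ι_π_ne _ (fun h => hjk (Fin.succ_injective _ h))]
          id := by
            rw [← biproduct.total (f := fun _ : Fin (r + 1) => B), Fin.sum_univ_succ]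
            congr 1
            rw [show T.g = biproduct.lift _ from rfl, biproduct.lift_desc] }
    exact ext _ hT hB ih

/-- Finite biproducts of a coherent module. -/
lemma isCoh_biproduct {B : X.Modules} (hB : Coh.IsCoh B) (r : ℕ) :
    Coh.IsCoh (⨁ fun _ : Fin r => B) :=
  biproduct_mem (Q := fun M => Coh.IsCoh M)
    (fun M hz => haveI : Mono (0 : M ⟶ B) := ⟨fun a b _ => hz.eq_of_tgt a b⟩
      isCoh_of_mono (0 : M ⟶ B) hB (RPushQCoh.isQuasicoherent_of_isZero hz))
    (fun _ hS => CompDerived.isCoh_extension hS) hB r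

lemma isQuasicoherent_biproduct {B : X.Modules} (hB : B.IsQuasicoherent) (r : ℕ) :
    (⨁ fun _ : Fin r => B).IsQuasicoherent :=
  biproduct_mem (Q := fun M : X.Modules => M.IsQuasicoherent)
    (fun _ hz => RPushQCoh.isQuasicoherent_of_isZero hz)
    (fun _ hS => isQuasicoherent_of_extension hS) hB r

lemma support_biproduct {B : X.Modules} (hB : Coh.IsCoh B) {T : Set X}
    (h : CohB1.support B ⊆ T) (r : ℕ) : CohB1.support (⨁ fun _ : Fin r => B) ⊆ T := by
  refine (biproduct_mem (Q := fun M : X.Modules => M.IsQuasicoherent ∧ CohB1.support M ⊆ T)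
    (fun M hz => ⟨RPushQCoh.isQuasicoherent_of_isZero hz,
      fun x hx => (hx (subsingleton_stalk_of_isZero hz x)).elim⟩)
    (fun S hS h₁ h₃ => ?_) (B := B) (show B.IsQuasicoherent ∧ CohB1.support B ⊆ T from ⟨hB.1, h⟩) r).2
  have hq := isQuasicoherent_of_extension hS h₁.1 h₃.1
  exact ⟨hq, (support_of_shortExact hS h₁.1 hq h₃.1).le.trans (Set.union_subset h₁.2 h₃.2)⟩

/-- A morphism of quasi-coherent modules is an isomorphism on a stalk if it is so up to
denominators on affine sections. -/
lemma isIso_stalk {M N : X.Modules} (hM : M.IsQuasicoherent) (hN : N.IsQuasicoherent) (f : M ⟶ N)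
    {U : X.Opens} (hU : IsAffineOpen U) (x : X) (hx : x ∈ U)
    (hinj : ∀ m : Γ(M, U), f.app U m = 0 → ∃ a : Γ(X, U), x ∈ X.basicOpen a ∧ a • m = 0)
    (hsurj : ∀ n : Γ(N, U), ∃ a : Γ(X, U), x ∈ X.basicOpen a ∧ ∃ m, f.app U m = a • n) :
    IsIso ((DerSch.stalkFunctor X x).map f) := by
  haveI hK := isQuasicoherent_kernel f hM hN
  haveI hC := isQuasicoherent_cokernel f hM hN
  haveI hKs : Subsingleton ((kernel f).presheaf.stalk x) :=
    (subsingleton_stalk_iff _ hU x hx).2 fun c => by
      obtain ⟨a, ha, hac⟩ := hinj ((kernel.ι f).app U c) (by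
        rw [← ConcreteCategory.comp_apply, ← Scheme.Modules.Hom.comp_app, kernel.condition]
        rfl)
      refine ⟨a, ha, app_injective_of_mono (kernel.ι f) U ?_⟩
      rw [Scheme.Modules.Hom.app_smul, hac, map_zero]
  haveI hCs : Subsingleton ((cokernel f).presheaf.stalk x) :=
    (subsingleton_stalk_iff _ hU x hx).2 fun c => by
      obtain ⟨n, rfl⟩ := app_surjective_of_epi (cokernel.π f) hN hC hU c
      obtain ⟨a, ha, m, hm⟩ := hsurj n
      refine ⟨a, ha, ?_⟩
      rw [← Scheme.Modules.Hom.app_smul, ← hm, ← ConcreteCategory.comp_apply,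
        ← Scheme.Modules.Hom.comp_app, cokernel.condition]
      rfl
  let F := DerSch.stalkFunctor X x
  have h1 : IsZero (kernel (F.map f)) := by
    haveI : Subsingleton (F.obj (kernel f)) := hKs
    exact (ModuleCat.isZero_of_subsingleton (F.obj (kernel f))).of_iso (PreservesKernel.iso F f).symm
  have h2 : IsZero (cokernel (F.map f)) := by
    haveI : Subsingleton (F.obj (cokernel f)) := hCs
    exact (ModuleCat.isZero_of_subsingleton (F.obj (cokernel f))).of_iso (PreservesCokernel.iso F f).symm
  haveI := Preadditive.mono_of_isZero_kernel _ h1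
  haveI := Preadditive.epi_of_isZero_cokernel _ h2
  exact isIso_of_mono_of_epi _

/-- The stalk of a submodule or quotient is controlled by isomorphisms on stalks. -/
lemma not_mem_support_of_isIso {M N : X.Modules} (f : M ⟶ N) {x : X}
    [IsIso ((DerSch.stalkFunctor X x).map f)] :
    x ∉ CohB1.support (kernel f) ∧ x ∉ CohB1.support (cokernel f) := by
  let F := DerSch.stalkFunctor X x
  constructor <;> refine not_not.2 ?_
  · exact ModuleCat.subsingleton_of_isZero
      (((isZero_kernel_of_mono (F.map f))).of_iso (PreservesKernel.iso F f))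
  · exact ModuleCat.subsingleton_of_isZero
      (((isZero_cokernel_of_epi (F.map f))).of_iso (PreservesCokernel.iso F f))

/-- Transfer along a map which is an isomorphism at the generic point. -/
lemma Two.iff_of_isIso {P : X.Modules → Prop} {T : Set X} (hP : Two P T) {ξ : X}
    (small : ∀ M : X.Modules, Coh.IsCoh M → CohB1.support M ⊆ T → ξ ∉ CohB1.support M → P M)
    {M N : X.Modules} (f : M ⟶ N) (hM : Coh.IsCoh M) (hN : Coh.IsCoh N)
    (hMs : CohB1.support M ⊆ T) (hNs : CohB1.support N ⊆ T)
    [IsIso ((DerSch.stalkFunctor X ξ).map f)] : P M ↔ P N := by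
  obtain ⟨hk, hc⟩ := not_mem_support_of_isIso f (x := ξ)
  have hK := isCoh_kernel f hM hN.1
  have hC := isCoh_cokernel f hM.1 hN
  have hI := isCoh_kernel (cokernel.π f) hN hC.1
  let q : M ⟶ kernel (cokernel.π f) := Abelian.factorThruImage f
  have w : kernel.ι f ≫ q = 0 := by
    rw [← cancel_mono (kernel.ι (cokernel.π f)), Category.assoc, zero_comp]
    exact (congrArg (kernel.ι f ≫ ·) (Abelian.image.fac f)).trans (kernel.condition f)
  have hS : (ShortComplex.mk (kernel.ι f) q w).ShortExact :=
    { exact := ShortComplex.exact_of_f_is_kernel _ (KernelFork.IsLimit.ofι _ _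
        (fun {A} a ha => kernel.lift f a (by
          rw [← Abelian.image.fac f]
          exact (reassoc_of% ha) _ |>.trans zero_comp))
        (fun {A} a ha => kernel.lift_ι _ _ _)
        (fun {A} a ha b hb => by rw [← cancel_mono (kernel.ι f), kernel.lift_ι, hb]))
      mono_f := inferInstanceAs (Mono (kernel.ι f))
      epi_g := inferInstanceAs (Epi q) }
  have hS' : (ShortComplex.mk (kernel.ι (cokernel.π f)) (cokernel.π f)
      (kernel.condition _)).ShortExact :=
    { exact := ShortComplex.exact_of_f_is_kernel _ (kernelIsKernel _)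
      mono_f := inferInstanceAs (Mono (kernel.ι (cokernel.π f)))
      epi_g := inferInstanceAs (Epi (cokernel.π f)) }
  have h1 := hP.two _ hS hK hM hI hMs
  have h2 := hP.two _ hS' hI hN hC hNs
  have hKs := small _ hK ((Set.subset_union_left.trans_eq
    (support_of_shortExact hS hK.1 hM.1 hI.1).symm).trans hMs) hk
  have hCs := small _ hC ((Set.subset_union_right.trans_eq
    (support_of_shortExact hS' hI.1 hN.1 hC.1).symm).trans hNs) hc
  exact ⟨fun h => h2.2.1 (h1.1 hKs h) hCs, fun h => h1.2.1 hKs (h2.2.2 h hCs)⟩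

/-- Sections of a finite biproduct are determined by their components. -/
lemma biproduct_app_ext {r : ℕ} (F : Fin r → X.Modules) {U : X.Opens} {n n' : Γ(⨁ F, U)}
    (h : ∀ k, (biproduct.π F k).app U n = (biproduct.π F k).app U n') : n = n' := by
  have hid : ∀ z : Γ(⨁ F, U), ∑ k, (biproduct.ι F k).app U ((biproduct.π F k).app U z) = z := by
    intro z
    let Φ : ((⨁ F) ⟶ (⨁ F)) →+ Γ(⨁ F, U) :=
      { toFun := fun φ => φ.app U z
        map_zero' := rfl
        map_add' := fun _ _ => rfl }
    exact (map_sum Φ _ Finset.univ).symm.trans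
      ((congrArg Φ (biproduct.total (f := F))).trans rfl)
  rw [← hid n, ← hid n']
  exact Finset.sum_congr rfl fun k _ => by rw [h k]

/-- Classes closed under summands: the structure module at a point. -/
theorem structure_of_killed {P : X.Modules → Prop} {ξ : X} (hP : Two P (closure {ξ}))
    (hsum : ∀ (M N : X.Modules) (i : N ⟶ M) (r : M ⟶ N), i ≫ r = 𝟙 N → Coh.IsCoh M → Coh.IsCoh N →
      P M → P N)
    (small : ∀ M : X.Modules, Coh.IsCoh M → CohB1.support M ⊆ closure {ξ} →
      ξ ∉ CohB1.support M → P M)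
    {G : X.Modules} (hG : Coh.IsCoh G) (hPG : P G) (hGs : CohB1.support G ⊆ closure {ξ})
    (hkill : ClSub.KilledByIdeal
      (Scheme.IdealSheafData.vanishingIdeal ⟨closure {ξ}, isClosed_closure⟩) G)
    (hξ : ξ ∈ CohB1.support G)
    {Z₀ : Scheme.{u}} (i : Z₀ ⟶ X) [IsClosedImmersion i] [IsIntegral Z₀]
    (h₀ : i (genericPoint Z₀) = ξ) :
    P ((Coh.push i).obj (Coh.structureModule Z₀)) := by
  haveI : AlgebraicGeometry.IsLocallyNoetherian Z₀ := LocallyOfFiniteType.isLocallyNoetherian i
  let B := (Coh.push i).obj (Coh.structureModule Z₀)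
  have hB : Coh.IsCoh B := isCoh_pushforward_of_isFinite i (isCoh_structureModule Z₀)
  haveI := hB.1
  haveI := hG.1
  have hBs : CohB1.support B = closure {ξ} := by
    rw [support_push_structure i, range_eq_closure i, h₀]
  obtain ⟨U, hU, hξU, -⟩ := Opens.isBasis_iff_nbhd.1 X.isBasis_affineOpens (Opens.mem_top ξ)
  haveI : Nonempty (i ⁻¹ᵁ U : Z₀.Opens) := ⟨⟨genericPoint Z₀, show i _ ∈ U from h₀ ▸ hξU⟩⟩
  haveI : IsDomain Γ(Z₀, i ⁻¹ᵁ U) := IsIntegral.component_integral _
  letI : Algebra Γ(X, U) Γ(Z₀, i ⁻¹ᵁ U) := (i.app U).hom.toAlgebra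
  haveI := isFiniteType_toFinite hG hU
  let p := hU.primeIdealOf ⟨ξ, hξU⟩
  have hbo := fun a : Γ(X, U) => mem_basicOpen_iff_notMem_prime hU ξ hξU a
  have hgen : ∀ O : Z₀.Opens, (O : Set Z₀).Nonempty → genericPoint Z₀ ∈ O := fun O ⟨y, hy⟩ =>
    (genericPoint_specializes y).mem_open O.2 hy
  have hker : RingHom.ker (algebraMap Γ(X, U) Γ(Z₀, i ⁻¹ᵁ U)) = p.asIdeal := by
    ext r
    rw [RingHom.mem_ker, ← not_iff_not, ← hbo]
    show ¬ (i.app U r = 0) ↔ _
    rw [← basicOpen_eq_bot_iff, ← Scheme.preimage_basicOpen, ← h₀]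
    refine ⟨fun h => ?_, fun h hb => ?_⟩
    · obtain ⟨y, hy⟩ : ∃ y, y ∈ i ⁻¹ᵁ X.basicOpen r := by
        by_contra hc
        exact h (le_bot_iff.1 fun y hy => (hc ⟨y, hy⟩).elim)
      exact hgen (i ⁻¹ᵁ X.basicOpen r) ⟨y, hy⟩
    · exact (hb.le (show genericPoint Z₀ ∈ i ⁻¹ᵁ X.basicOpen r from h) :)
  have hkill' : ∀ a ∈ p.asIdeal, ∀ m : Γ(G, U), a • m = 0 := by
    intro a ha m
    refine hkill ⟨U, hU⟩ a ?_ m
    rw [Scheme.IdealSheafData.vanishingIdeal_ideal, PrimeSpectrum.mem_vanishingIdeal]
    intro q hq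
    by_contra hqa
    have hq' : hU.fromSpec q ∈ X.basicOpen a := by
      rw [← PrimeSpectrum.mem_basicOpen, ← hU.fromSpec_preimage_basicOpen] at hqa
      exact hqa
    exact (hbo a).1 ((specializes_iff_mem_closure.2 hq).mem_open (X.basicOpen a).2 hq') ha
  obtain ⟨r, l, s, d, hd, hls, hinj⟩ :=
    exists_generic_basis_killed (i.app_surjective U hU) p hker hkill'
  have hr : r ≠ 0 := by
    rintro rfl
    refine hξ ((subsingleton_stalk_iff G hU ξ hξU).2 fun m => ?_)
    obtain ⟨a, ha, ham⟩ := hinj m fun k => k.elim0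
    exact ⟨a, (hbo a).2 ha, ham⟩
  let l' : Fin r → (Γ(G, U) →ₗ[Γ(X, U)] Γ(B, U)) := fun k =>
    { toFun := fun t => (show Γ(Z₀, i ⁻¹ᵁ U) from l k t)
      map_add' := (l k).map_add
      map_smul' := (l k).map_smul }
  let H := pushRes B hU
  haveI hHq : H.IsQuasicoherent := isQuasicoherent_pushRes B hU
  let g := unitRes B hU
  let Br := ⨁ fun _ : Fin r => B
  let Hr := ⨁ fun _ : Fin r => H
  have hBr : Coh.IsCoh Br := isCoh_biproduct hB r
  let gr : Br ⟶ Hr := biproduct.map fun _ => g
  let f : G ⟶ Hr := biproduct.lift fun k => extHom G B hU (l' k)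
  haveI hgξ : IsIso ((DerSch.stalkFunctor X ξ).map g) :=
    isIso_stalk hB.1 hHq g hU ξ hξU
      (fun m hm => ⟨1, by rw [Scheme.basicOpen_one]; exact hξU, by
        rw [one_smul]
        exact (unitRes_app_bijective B hU le_rfl).1 (hm.trans (map_zero _).symm)⟩)
      (fun n => ⟨1, by rw [Scheme.basicOpen_one]; exact hξU, by
        rw [one_smul]; exact (unitRes_app_bijective B hU le_rfl).2 n⟩)
  haveI hgrξ : IsIso ((DerSch.stalkFunctor X ξ).map gr) := by
    refine isIso_stalk hBr.1 (isQuasicoherent_biproduct hHq r) gr hU ξ hξU (fun m hm => ?_) (fun n => ?_)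
    · refine ⟨1, by rw [Scheme.basicOpen_one]; exact hξU, ?_⟩
      rw [one_smul]
      refine biproduct_app_ext _ fun k => (unitRes_app_bijective B hU le_rfl).1 ?_
      rw [← ConcreteCategory.comp_apply, ← Scheme.Modules.Hom.comp_app,
        show biproduct.π (fun _ : Fin r => B) k ≫ unitRes B hU = gr ≫ biproduct.π (fun _ : Fin r => H) k from
          (biproduct.map_π (fun _ => g) k).symm,
        Scheme.Modules.Hom.comp_app, ConcreteCategory.comp_apply, hm, map_zero, map_zero, map_zero]
    · refine ⟨1, by rw [Scheme.basicOpen_one]; exact hξU, ?_⟩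
      choose b hb using fun k => (unitRes_app_bijective B hU le_rfl).2
        ((biproduct.π (fun _ : Fin r => H) k).app U n)
      refine ⟨∑ k, (biproduct.ι (fun _ : Fin r => B) k).app U (b k), ?_⟩
      rw [one_smul]
      refine biproduct_app_ext _ fun k => ?_
      rw [map_sum, map_sum, Finset.sum_eq_single k]
      · rw [← ConcreteCategory.comp_apply, ← Scheme.Modules.Hom.comp_app,
          ← ConcreteCategory.comp_apply, ← Scheme.Modules.Hom.comp_app, biproduct.ι_map_assoc,
          biproduct.ι_π_self, Category.comp_id]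
        exact hb k
      · intro j _ hjk
        rw [← ConcreteCategory.comp_apply, ← Scheme.Modules.Hom.comp_app,
          ← ConcreteCategory.comp_apply, ← Scheme.Modules.Hom.comp_app, biproduct.ι_map_assoc,
          biproduct.ι_π_ne _ hjk, comp_zero]
        rfl
      · simp
  have hfapp : ∀ (k : Fin r) (m : Γ(G, U)),
      (biproduct.π (fun _ : Fin r => H) k).app U (f.app U m) = g.app U (l' k m) := fun k m => by
    rw [← ConcreteCategory.comp_apply, ← Scheme.Modules.Hom.comp_app, biproduct.lift_π, extHom_app]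
  have hext : ∀ n n' : Γ(Hr, U), (∀ k, (biproduct.π (fun _ : Fin r => H) k).app U n =
      (biproduct.π (fun _ : Fin r => H) k).app U n') → n = n' := fun n n' h => biproduct_app_ext _ h
  haveI hfξ : IsIso ((DerSch.stalkFunctor X ξ).map f) := by
    refine isIso_stalk hG.1 ?_ f hU ξ hξU (fun m hm => ?_) (fun n => ?_)
    · exact isQuasicoherent_biproduct hHq r
    · have hl : ∀ k, l k m = 0 := fun k => by
        have h1 := hfapp k m
        rw [hm, map_zero] at h1
        exact (unitRes_app_bijective B hU le_rfl).1 (h1.symm.trans (map_zero _).symm)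
      obtain ⟨a, ha, ham⟩ := hinj m hl
      exact ⟨a, (hbo a).2 ha, ham⟩
    · obtain ⟨d', hd'⟩ := i.app_surjective U hU d
      choose b hb using fun k => (unitRes_app_bijective B hU le_rfl).2
        ((biproduct.π (fun _ : Fin r => H) k).app U n)
      choose c hc using fun k => i.app_surjective U hU (show Γ(Z₀, i ⁻¹ᵁ U) from b k)
      refine ⟨d', (hbo d').2 ?_, ∑ k, c k • s k, hext _ _ fun k => ?_⟩
      · rw [← hker, RingHom.mem_ker]
        exact fun h => hd (hd'.symm.trans h)
      · rw [hfapp, Scheme.Modules.Hom.app_smul, ← hb k, ← Scheme.Modules.Hom.app_smul]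
        congr 1
        show (show Γ(Z₀, i ⁻¹ᵁ U) from l k (∑ j, c j • s j)) =
          (i.app U d' : Γ(Z₀, i ⁻¹ᵁ U)) * (show Γ(Z₀, i ⁻¹ᵁ U) from b k)
        rw [map_sum, Finset.sum_eq_single k]
        · rw [map_smul, hls, if_pos rfl, Algebra.smul_def, mul_comm, hd']
          exact congrArg (d * ·) (hc k)
        · intro j _ hjk
          rw [map_smul, hls, if_neg (Ne.symm hjk), smul_zero]
        · simp
  let δ : G ⊞ Br ⟶ Hr := biprod.desc f (-gr)
  let C := kernel δ
  let φ : C ⟶ G := kernel.ι δ ≫ biprod.fst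
  let ψ : C ⟶ Br := kernel.ι δ ≫ biprod.snd
  have w : φ ≫ f = ψ ≫ gr := by
    have e : δ = biprod.fst ≫ f - biprod.snd ≫ gr := by
      refine biprod.hom_ext' _ _ ?_ ?_ <;> simp [δ]
    have h : kernel.ι δ ≫ δ = φ ≫ f - ψ ≫ gr := (congrArg (kernel.ι δ ≫ ·) e).trans (by
      simp [φ, ψ, Preadditive.comp_sub, C])
    exact sub_eq_zero.1 (h.symm.trans (kernel.condition δ))
  have hsq : IsPullback φ ψ f gr := by
    refine ⟨⟨w⟩, ⟨PullbackCone.IsLimit.mk w
      (fun c => kernel.lift δ (biprod.lift c.fst c.snd) (by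
        simp [δ, biprod.lift_desc, c.condition]))
      (fun c => by simp [φ, C]) (fun c => by simp [ψ, C]) (fun c m h₁ h₂ => ?_)⟩⟩
    rw [← cancel_mono (kernel.ι δ), kernel.lift_ι]
    exact biprod.hom_ext _ _ ((Category.assoc _ _ _).trans (h₁.trans (biprod.lift_fst _ _).symm))
      ((Category.assoc _ _ _).trans (h₂.trans (biprod.lift_snd _ _).symm))
  haveI : IsIso ((DerSch.stalkFunctor X ξ).map φ) :=
    (hsq.map (DerSch.stalkFunctor X ξ)).isIso_fst_of_isIso
  haveI : IsIso ((DerSch.stalkFunctor X ξ).map ψ) :=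
    (hsq.map (DerSch.stalkFunctor X ξ)).isIso_snd_of_isIso
  have hHr : Hr.IsQuasicoherent := isQuasicoherent_biproduct hHq r
  let T : ShortComplex X.Modules := ShortComplex.mk (biprod.inl : G ⟶ G ⊞ Br) biprod.snd (by simp)
  have hT : T.ShortExact :=
    ShortComplex.Splitting.shortExact
      { r := biprod.fst, s := biprod.inr, f_r := by simp [T], s_g := by simp [T],
        id := by simp [T, biprod.total] }
  have hGB : Coh.IsCoh (G ⊞ Br) := CompDerived.isCoh_extension hT hG hBr
  have hC : Coh.IsCoh C := isCoh_kernel δ hGB hHr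
  have hBrs : CohB1.support Br ⊆ closure {ξ} := support_biproduct hB hBs.le r
  have hGBs : CohB1.support (G ⊞ Br) ⊆ closure {ξ} :=
    (support_of_shortExact hT hG.1 hGB.1 hBr.1).le.trans (Set.union_subset hGs hBrs)
  have hCs : CohB1.support C ⊆ closure {ξ} :=
    ((Set.subset_union_left.trans_eq (support_of_shortExact (ses (kernel.ι δ)) hC.1 hGB.1
      (isCoh_cokernel _ hC.1 hGB).1).symm)).trans hGBs
  have hPBr : P Br := (hP.iff_of_isIso small ψ hC hBr hCs hBrs).1
    ((hP.iff_of_isIso small φ hC hG hCs hGs).2 hPG)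
  exact hsum Br B (biproduct.ι (fun _ : Fin r => B) ⟨0, Nat.pos_of_ne_zero hr⟩)
    (biproduct.π (fun _ : Fin r => B) ⟨0, Nat.pos_of_ne_zero hr⟩)
    (biproduct.ι_π_self (fun _ : Fin r => B) ⟨0, Nat.pos_of_ne_zero hr⟩) hBr hB hPBr

end Groth.Agent.Devissage
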