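import Mathlib.RingTheory.Localization.FractionRing
import Mathlib.RingTheory.Localization.Integer
import Mathlib.RingTheory.IntegralClosure.IsIntegral.Basic
import Mathlib.RingTheory.Finiteness.Basic
import Mathlib.RingTheory.IntegralClosure.IsIntegralClosure.Basic
import Mathlib.LinearAlgebra.Basis.VectorSpace
import Mathlib.Algebra.Polynomial.Inductions

/-!
# Functionals on a finite algebra with prescribed nonvanishing
-/

noncomputable section

universe u

namespace Groth.Agent.Devissage

open Polynomial

variable {R : Type u} [CommRing R]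

/-- A nonzero element of a domain killed by a polynomial with nonzero image divides a nonzero
scalar. -/
lemma exists_mul_eq_of_aeval {B K : Type u} [CommRing B] [Algebra R B] [CommRing K] [IsDomain K]
    [Algebra R K] (ρ : B →ₐ[R] K) (c : B) (hc : ρ c ≠ 0) :
    ∀ (d : ℕ) (p : R[X]), p.natDegree ≤ d → p.map (algebraMap R K) ≠ 0 → aeval (ρ c) p = 0 →
      ∃ (r : R) (y : B), algebraMap R K r ≠ 0 ∧ ρ (c * y) = algebraMap R K r := by
  intro d
  induction d with
  | zero =>
    intro p hd hp he
    rw [eq_C_of_natDegree_le_zero hd] at hp he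
    rw [aeval_C] at he
    exact absurd (by rw [map_C, he, map_zero]) hp
  | succ d ih =>
    intro p hd hp he
    by_cases h0 : algebraMap R K (p.coeff 0) = 0
    · refine ih p.divX (by rw [natDegree_divX_eq_natDegree_tsub_one]; omega) (fun h => hp ?_) ?_
      · rw [← X_mul_divX_add p, Polynomial.map_add, Polynomial.map_mul, h, map_C, h0, map_zero,
          mul_zero, add_zero]
      · rw [← X_mul_divX_add p, map_add, map_mul, aeval_X, aeval_C, h0, add_zero] at he
        exact (mul_eq_zero.1 he).resolve_left hc
    · refine ⟨p.coeff 0, -(aeval c p.divX), h0, ?_⟩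
      rw [← X_mul_divX_add p, map_add, map_mul, aeval_X, aeval_C] at he
      rw [map_mul, map_neg, ← aeval_algHom_apply, mul_neg]
      exact neg_eq_of_add_eq_zero_right he

/-- For a finite algebra with a point in a field over a domain quotient `R'` of `R`, there is a
functional to `R'` which is nonzero on all powers of an element invertible at the point. -/
theorem exists_functional {R' K B : Type u} [CommRing R'] [IsDomain R'] [Algebra R R']
    (hs : Function.Surjective (algebraMap R R')) [Field K] [Algebra R K]
    (hker : ∀ r : R, algebraMap R K r = 0 ↔ algebraMap R R' r = 0)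
    [CommRing B] [Algebra R B] [Module.Finite R B] (ρ : B →ₐ[R] K) :
    ∃ l : B →ₗ[R] R', ∀ c : B, ρ c ≠ 0 → ∃ y, l (c * y) ≠ 0 := by
  classical
  let Q := FractionRing R'
  let j : R' →+* K := (algebraMap R R').liftOfSurjective hs
    ⟨algebraMap R K, fun r hr => (RingHom.mem_ker).2 ((hker r).2 hr)⟩
  have hj : ∀ r, j (algebraMap R R' r) = algebraMap R K r := fun r =>
    RingHom.liftOfRightInverse_comp_apply _ _ _ _ r
  have hjinj : Function.Injective j := by
    rw [injective_iff_map_eq_zero]
    intro a ha
    obtain ⟨r, rfl⟩ := hs a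
    exact (hker r).1 ((hj r).symm.trans ha)
  letI : Algebra Q K := (IsFractionRing.lift hjinj : Q →+* K).toAlgebra
  haveI : IsScalarTower R Q K := IsScalarTower.of_algebraMap_eq fun r => by
    rw [RingHom.algebraMap_toAlgebra, IsScalarTower.algebraMap_apply R R' Q,
      IsFractionRing.lift_algebraMap, hj]
  obtain ⟨φ, hφ'⟩ := LinearMap.exists_leftInverse_of_injective (Algebra.linearMap Q K)
    (LinearMap.ker_eq_bot.2 (algebraMap Q K).injective)
  have hφ : φ 1 ≠ 0 := by
    have := congr($hφ' (1 : Q))
    simp only [LinearMap.comp_apply, Algebra.linearMap_apply, map_one, LinearMap.id_apply] at this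
    rw [this]
    exact one_ne_zero
  let μ : B →ₗ[R] Q := (φ.restrictScalars R).comp ρ.toLinearMap
  obtain ⟨t, ht⟩ := (Module.Finite.fg_top : (⊤ : Submodule R B).FG)
  obtain ⟨d, hd⟩ := IsLocalization.exist_integer_multiples (nonZeroDivisors R') t fun b => μ b
  obtain ⟨r₀, hr₀⟩ := hs d.1
  let ι : R' →ₗ[R] Q := (IsScalarTower.toAlgHom R R' Q).toLinearMap
  have hι : Function.Injective ι := IsFractionRing.injective R' Q
  have hmem : ∀ b, (r₀ • μ) b ∈ LinearMap.range ι := by
    intro b
    have hb : b ∈ Submodule.span R (t : Set B) := ht.symm ▸ trivial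
    induction hb using Submodule.span_induction with
    | mem x hx =>
      obtain ⟨a, ha⟩ := hd x hx
      refine ⟨a, ?_⟩
      show algebraMap R' Q a = r₀ • μ x
      rw [← algebraMap_smul R' r₀ (μ x), hr₀]
      exact ha
    | zero => rw [map_zero]; exact Submodule.zero_mem _
    | add x y _ _ hx hy => rw [map_add]; exact Submodule.add_mem _ hx hy
    | smul a x _ hx => rw [map_smul]; exact Submodule.smul_mem _ a hx
  let l : B →ₗ[R] R' := (LinearEquiv.ofInjective ι hι).symm.toLinearMap.comp
    ((r₀ • μ).codRestrict _ hmem)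
  have hl : ∀ b, ι (l b) = r₀ • μ b := fun b => by
    show ι ((LinearEquiv.ofInjective ι hι).symm ⟨(r₀ • μ) b, hmem b⟩) = _
    rw [← LinearEquiv.ofInjective_apply (h := hι), LinearEquiv.apply_symm_apply]
    rfl
  refine ⟨l, fun c hc => ?_⟩
  obtain ⟨p, hp, hpc⟩ := (Algebra.IsIntegral.of_finite R B).isIntegral c
  have hpc' : aeval c p = 0 := hpc
  obtain ⟨r, y, hr, hy⟩ := exists_mul_eq_of_aeval ρ c hc p.natDegree p le_rfl
    (hp.map _).ne_zero (by rw [aeval_algHom_apply, hpc', map_zero])
  refine ⟨y, fun h => ?_⟩
  have h1 := hl (c * y)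
  rw [h, map_zero] at h1
  have h2 : μ (c * y) = r • φ 1 := by
    show φ (ρ (c * y)) = _
    rw [hy, Algebra.algebraMap_eq_smul_one, ← algebraMap_smul Q r (1 : K), map_smul, algebraMap_smul]
  rw [h2, ← algebraMap_smul R' r₀, ← algebraMap_smul R' r, hr₀] at h1
  rcases smul_eq_zero.1 h1.symm with h3 | h3
  · exact nonZeroDivisors.coe_ne_zero d h3
  rcases smul_eq_zero.1 h3 with h4 | h4
  · exact hr ((hker r).2 h4)
  · exact hφ h4

end Groth.Agent.Devissage
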